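import Mathlib

/-!
The affine Bezout count for two plane curves without common point at infinity.
-/

set_option autoImplicit false
set_option linter.unusedSectionVars false
universe u

open MvPolynomial

namespace Groth.Agent.Gems6.Bezout

variable {k : Type u} [Field k]

theorem two_mul_sum_sub (m : ℕ) :
    2 * ∑ i ∈ Finset.range (m + 1), (m + 1 - i) = (m + 1) * (m + 2) := by
  induction m with
  | zero => simp
  | succ m ih =>
    rw [Finset.sum_range_succ, show m + 1 + 1 - (m + 1) = 1 by omega,
      Finset.sum_congr rfl (g := fun i => (m + 1 - i) + 1) fun i hi => by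
        have := Finset.mem_range.1 hi; omega,
      Finset.sum_add_distrib, Finset.sum_const, Finset.card_range, smul_eq_mul]
    linarith

theorem two_mul_finrank_restrictTotalDegree (m : ℕ) :
    2 * Module.finrank k (restrictTotalDegree (Fin 2) k m) = (m + 1) * (m + 2) := by
  classical
  let S : Set (Fin 2 →₀ ℕ) := {n | (n.sum fun _ e => e) ≤ m}
  have hS : ∀ n : Fin 2 →₀ ℕ, n ∈ S ↔ n 0 + n 1 ≤ m := fun n => by
    show (n.sum fun _ e => e) ≤ m ↔ _
    rw [Finsupp.sum_fintype _ _ (fun _ => rfl), Fin.sum_univ_two]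
  let T := (Finset.range (m + 1)).sigma fun i => Finset.range (m + 1 - i)
  have e : S ≃ T :=
    { toFun := fun n => ⟨⟨n.1 0, n.1 1⟩, by
        have := (hS _).1 n.2
        simp only [T, Finset.mem_sigma, Finset.mem_range]
        omega⟩
      invFun := fun p => ⟨Finsupp.equivFunOnFinite.symm ![p.1.1, p.1.2], (hS _).2 (by
        have := p.2
        simp only [T, Finset.mem_sigma, Finset.mem_range] at this
        simp
        omega)⟩
      left_inv := fun n => Subtype.ext (Finsupp.ext fun i => by fin_cases i <;> simp)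
      right_inv := fun p => Subtype.ext (by simp) }
  haveI : Fintype S := Fintype.ofEquiv _ e.symm
  rw [show restrictTotalDegree (Fin 2) k m = restrictSupport k S from rfl,
    Module.finrank_eq_card_basis (basisRestrictSupport k S), Fintype.card_congr e, Fintype.card_coe,
    Finset.card_sigma]
  simp only [Finset.card_range]
  exact two_mul_sum_sub m


/-- Evaluation of the third variable at a constant. -/
noncomputable def dehom (c : k) : MvPolynomial (Fin 3) k →ₐ[k] MvPolynomial (Fin 2) k :=
  aeval (Fin.cons (X 0) (Fin.cons (X 1) (Fin.cons (C c) Fin.elim0)))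

theorem dehom_monomial (c : k) (d : Fin 3 →₀ ℕ) (r : k) : dehom c (monomial d r) =
    monomial (Finsupp.single (0 : Fin 2) (d 0) + Finsupp.single (1 : Fin 2) (d 1)) (r * c ^ d 2) := by
  rw [dehom, aeval_monomial, Finsupp.prod_fintype _ _ (fun i => pow_zero _), Fin.prod_univ_three, algebraMap_eq,
    X, X]
  show C r * (monomial (Finsupp.single (0 : Fin 2) 1) (1 : k) ^ d 0 * monomial (Finsupp.single (1 : Fin 2) 1) (1 : k) ^ d 1 * (C c) ^ d 2) = _
  rw [monomial_pow, monomial_pow, monomial_mul, one_pow, one_pow, one_mul, ← C_pow, mul_comm (monomial _ _),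
    C_mul_monomial, C_mul_monomial, mul_one, Finsupp.smul_single, Finsupp.smul_single, smul_eq_mul, smul_eq_mul,
    mul_one, mul_one]

theorem dehom_top {n : ℕ} {f : MvPolynomial (Fin 3) k} (hf : f.IsHomogeneous n) :
    (dehom 0 f).IsHomogeneous n ∧ (dehom 1 f - dehom 0 f).totalDegree ≤ n - 1 := by
  conv => rw [f.as_sum]
  rw [map_sum, map_sum, ← Finset.sum_sub_distrib]
  have hdeg : ∀ d ∈ f.support, d 0 + d 1 + d 2 = n := fun d hd => by
    have h := hf (mem_support_iff.1 hd)
    simp [Finsupp.weight_apply, Finsupp.sum_fintype, Fin.sum_univ_three] at h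
    exact h
  refine ⟨IsHomogeneous.sum _ _ _ fun d hd => ?_, totalDegree_finsetSum_le fun d hd => ?_⟩
  · rw [dehom_monomial]
    rcases Nat.eq_zero_or_pos (d 2) with h | h
    · refine isHomogeneous_monomial _ ?_
      rw [map_add, Finsupp.degree_single, Finsupp.degree_single]
      have := hdeg d hd
      omega
    · rw [zero_pow h.ne', mul_zero, monomial_zero]
      exact isHomogeneous_zero _ _ _
  · rw [dehom_monomial, dehom_monomial]
    rcases Nat.eq_zero_or_pos (d 2) with h | h
    · simp [h]
    · rw [zero_pow h.ne', mul_zero, monomial_zero, sub_zero]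
      refine (totalDegree_monomial_le _ _).trans ?_
      have := hdeg d hd
      rw [Finsupp.sum_add_index' (fun _ => rfl) (fun _ _ _ => rfl), Finsupp.sum_single_index rfl,
        Finsupp.sum_single_index rfl]
      simp only [id]
      omega

/-- Polynomials of bounded degree. -/
noncomputable abbrev V (k : Type u) [Field k] (N : ℕ) : Submodule k (MvPolynomial (Fin 2) k) :=
  restrictTotalDegree (Fin 2) k N

theorem mem_V {N : ℕ} {p : MvPolynomial (Fin 2) k} : p ∈ V k N ↔ p.totalDegree ≤ N :=
  mem_restrictTotalDegree _ _ _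

theorem mul_mem_V {i j N : ℕ} {p q : MvPolynomial (Fin 2) k} (hp : p ∈ V k i) (hq : q ∈ V k j) (h : i + j ≤ N) :
    p * q ∈ V k N :=
  mem_V.2 ((totalDegree_mul p q).trans ((add_le_add (mem_V.1 hp) (mem_V.1 hq)).trans h))

theorem sub_component_mem {i : ℕ} {p : MvPolynomial (Fin 2) k} (hp : p ∈ V k (i + 1)) :
    p - homogeneousComponent (i + 1) p ∈ V k i := by
  refine mem_V.2 (Finset.sup_le fun d hd => ?_)
  rw [mem_support_iff, coeff_sub, coeff_homogeneousComponent] at hd
  have h1 : d ∈ p.support := mem_support_iff.2 fun h => hd (by simp [h])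
  have h2 : (d.sum fun _ e => e) ≤ i + 1 := (le_totalDegree h1).trans (mem_V.1 hp)
  rcases h2.lt_or_eq with h | h
  · omega
  · exfalso
    refine hd ?_
    rw [if_pos, sub_self]
    rw [← h]
    rfl

theorem component_mul_top (p q : MvPolynomial (Fin 2) k) :
    homogeneousComponent (p.totalDegree + q.totalDegree) (p * q) =
      homogeneousComponent p.totalDegree p * homogeneousComponent q.totalDegree q := by
  have low : ∀ r : MvPolynomial (Fin 2) k, r - homogeneousComponent r.totalDegree r = 0 ∨
      (r - homogeneousComponent r.totalDegree r).totalDegree < r.totalDegree := fun r => by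
    rcases Nat.eq_zero_or_pos r.totalDegree with h | h
    · left
      rw [h, homogeneousComponent_zero, ← totalDegree_eq_zero_iff_eq_C.1 h, sub_self]
    · right
      obtain ⟨i, hi⟩ : ∃ i, r.totalDegree = i + 1 := ⟨r.totalDegree - 1, by omega⟩
      have h1 := mem_V.1 (sub_component_mem (mem_V.2 hi.le : r ∈ V k (i + 1)))
      rw [← hi] at h1
      omega
  have small : ∀ r s : MvPolynomial (Fin 2) k, r = 0 ∨ r.totalDegree < p.totalDegree → s.totalDegree ≤ q.totalDegree →
      homogeneousComponent (p.totalDegree + q.totalDegree) (r * s) = 0 := fun r s hr hs => by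
    rcases hr with rfl | hr
    · rw [zero_mul, map_zero]
    · exact homogeneousComponent_eq_zero _ _ (lt_of_le_of_lt (totalDegree_mul r s) (by omega))
  set p0 := homogeneousComponent p.totalDegree p
  set q0 := homogeneousComponent q.totalDegree q
  have e : p * q = (p - p0) * q + (p0 * (q - q0) + p0 * q0) := by ring
  rw [e, map_add, map_add, small _ _ (low p) le_rfl, zero_add]
  have h2 : homogeneousComponent (p.totalDegree + q.totalDegree) (p0 * (q - q0)) = 0 := by
    rcases low q with h | h
    · rw [h, mul_zero, map_zero]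
    · refine homogeneousComponent_eq_zero _ _ (lt_of_le_of_lt (totalDegree_mul _ _) ?_)
      have : p0.totalDegree ≤ p.totalDegree := (homogeneousComponent_isHomogeneous p.totalDegree p).totalDegree_le
      have : (q - q0).totalDegree < q.totalDegree := h
      omega
  rw [h2, zero_add, homogeneousComponent_of_mem ((homogeneousComponent_isHomogeneous _ p).mul
    (homogeneousComponent_isHomogeneous _ q)), if_pos rfl]

variable (n m : ℕ) (F F0 G G0 : MvPolynomial (Fin 2) k)

/-- The hypotheses. -/
structure Hyp : Prop where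
  hn : 0 < n
  hm : 0 < m
  hF0 : F0.IsHomogeneous n
  hG0 : G0.IsHomogeneous m
  hF : (F - F0).totalDegree ≤ n - 1
  hG : (G - G0).totalDegree ≤ m - 1
  hrel : IsRelPrime F0 G0

variable {n m F F0 G G0}

theorem Hyp.F0_ne (h : Hyp n m F F0 G G0) : F0 ≠ 0 := fun e => by
  have hu : IsUnit G0 := isRelPrime_zero_left.1 (e ▸ h.hrel)
  have := h.hG0.totalDegree hu.ne_zero
  obtain ⟨c, -, hc⟩ := isUnit_iff_eq_C_of_isReduced.1 hu
  rw [hc, totalDegree_C] at this
  exact h.hm.ne this

theorem Hyp.symm (h : Hyp n m F F0 G G0) : Hyp m n G G0 F F0 :=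
  ⟨h.hm, h.hn, h.hG0, h.hF0, h.hG, h.hF, h.hrel.symm⟩

theorem Hyp.F_mem (h : Hyp n m F F0 G G0) : F ∈ V k n := by
  rw [← sub_add_cancel F F0]
  exact add_mem (mem_V.2 (h.hF.trans (Nat.sub_le _ _))) (mem_V.2 h.hF0.totalDegree_le)

theorem Hyp.component (h : Hyp n m F F0 G G0) : homogeneousComponent n F = F0 := by
  rw [← sub_add_cancel F F0, map_add, homogeneousComponent_eq_zero _ _ (by have := h.hn; have := h.hF; omega), zero_add,
    homogeneousComponent_of_mem h.hF0, if_pos rfl]

theorem Hyp.deg_F (h : Hyp n m F F0 G G0) : F.totalDegree = n := by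
  refine le_antisymm (mem_V.1 h.F_mem) (not_lt.1 fun hlt => h.F0_ne ?_)
  rw [← h.component, homogeneousComponent_eq_zero _ _ hlt]

theorem Hyp.isRelPrime (h : Hyp n m F F0 G G0) : IsRelPrime F G := by
  intro d hdF hdG
  obtain ⟨e, he⟩ := hdF
  obtain ⟨e', he'⟩ := hdG
  have hF : F ≠ 0 := fun e0 => by have := h.deg_F; rw [e0, totalDegree_zero] at this; exact h.hn.ne this
  have hG : G ≠ 0 := fun e0 => by have := h.symm.deg_F; rw [e0, totalDegree_zero] at this; exact h.hm.ne this
  rw [he] at hF
  rw [he'] at hG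
  obtain ⟨hd, hne⟩ := mul_ne_zero_iff.1 hF
  obtain ⟨-, hne'⟩ := mul_ne_zero_iff.1 hG
  have top : ∀ {p q : MvPolynomial (Fin 2) k}, p ≠ 0 → q ≠ 0 →
      homogeneousComponent (p * q).totalDegree (p * q) =
        homogeneousComponent p.totalDegree p * homogeneousComponent q.totalDegree q := fun {p q} hp hq => by
    rw [totalDegree_mul_of_isDomain hp hq]
    exact component_mul_top p q
  have h1 : F0 = homogeneousComponent d.totalDegree d * homogeneousComponent e.totalDegree e := by
    rw [← h.component, ← h.deg_F, he, top hd hne]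
  have h2 : G0 = homogeneousComponent d.totalDegree d * homogeneousComponent e'.totalDegree e' := by
    rw [← h.symm.component, ← h.symm.deg_F, he', top hd hne']
  have hu : IsUnit (homogeneousComponent d.totalDegree d) := h.hrel ⟨_, h1⟩ ⟨_, h2⟩
  have hne0 : homogeneousComponent d.totalDegree d ≠ 0 := hu.ne_zero
  obtain ⟨c, hc0, hc⟩ := isUnit_iff_eq_C_of_isReduced.1 hu
  have hd0 : d.totalDegree = 0 := by
    rw [← (homogeneousComponent_isHomogeneous d.totalDegree d).totalDegree hne0, hc, totalDegree_C]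
  rw [totalDegree_eq_zero_iff_eq_C] at hd0
  rw [hd0]
  refine (IsUnit.mk0 _ fun e0 => hd ?_).map C
  rw [hd0, e0, map_zero]

theorem Hyp.descend (h : Hyp n m F F0 G G0) {M : ℕ} (hM : n + m ≤ M) {a b : MvPolynomial (Fin 2) k}
    (ha : a ∈ V k (M + 1 - n)) (hb : b ∈ V k (M + 1 - m)) (hs : a * F + b * G ∈ V k M) :
    ∃ a' ∈ V k (M - n), ∃ b' ∈ V k (M - m), a' * F + b' * G = a * F + b * G := by
  obtain ⟨i, hi⟩ : ∃ i, M - n = i := ⟨_, rfl⟩
  obtain ⟨j, hj⟩ : ∃ j, M - m = j := ⟨_, rfl⟩
  rw [show M + 1 - n = i + 1 by omega] at ha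
  rw [show M + 1 - m = j + 1 by omega] at hb
  rw [hi, hj]
  set a0 := homogeneousComponent (i + 1) a with ha0
  set b0 := homogeneousComponent (j + 1) b with hb0
  have ha' := sub_component_mem ha
  have hb' := sub_component_mem hb
  have hFd : F - F0 ∈ V k (n - 1) := mem_V.2 h.hF
  have hGd : G - G0 ∈ V k (m - 1) := mem_V.2 h.hG
  have hrest : a0 * F0 + b0 * G0 ∈ V k M := by
    have e : a0 * F0 + b0 * G0 = (a * F + b * G) - ((a - a0) * F + a0 * (F - F0) + (b - b0) * G + b0 * (G - G0)) := by ring
    rw [e]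
    have := h.hn
    have := h.hm
    refine sub_mem hs (add_mem (add_mem (add_mem ?_ ?_) ?_) ?_)
    · exact mul_mem_V ha' h.F_mem (by omega)
    · exact mul_mem_V (mem_V.2 (homogeneousComponent_isHomogeneous _ _).totalDegree_le) hFd (by omega)
    · exact mul_mem_V hb' h.symm.F_mem (by omega)
    · exact mul_mem_V (mem_V.2 (homogeneousComponent_isHomogeneous _ _).totalDegree_le) hGd (by omega)
  have hz : a0 * F0 + b0 * G0 = 0 := by
    have hh : (a0 * F0 + b0 * G0).IsHomogeneous (M + 1) := by
      refine IsHomogeneous.add ?_ ?_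
      · exact (show i + 1 + n = M + 1 by omega) ▸ (homogeneousComponent_isHomogeneous _ _).mul h.hF0
      · exact (show j + 1 + m = M + 1 by omega) ▸ (homogeneousComponent_isHomogeneous _ _).mul h.hG0
    by_contra hne
    have := hh.totalDegree hne
    have := mem_V.1 hrest
    omega
  obtain ⟨c, hc⟩ : G0 ∣ a0 := h.hrel.symm.dvd_of_dvd_mul_right ⟨-b0, by linear_combination hz⟩
  have hb0c : b0 = -(c * F0) := by
    have h0 : G0 * (b0 + c * F0) = 0 := by rw [hc] at hz; linear_combination hz
    exact eq_neg_of_add_eq_zero_left ((mul_eq_zero.1 h0).resolve_left h.symm.F0_ne)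
  have hcdeg : c.totalDegree ≤ i + 1 - m := by
    rcases eq_or_ne c 0 with rfl | hc0
    · simp
    have h1 := (homogeneousComponent_isHomogeneous (i + 1) a).totalDegree_le
    rw [← ha0, hc, totalDegree_mul_of_isDomain h.symm.F0_ne hc0, h.hG0.totalDegree h.symm.F0_ne] at h1
    omega
  have := h.hn
  have := h.hm
  refine ⟨a - c * G, ?_, b + c * F, ?_, by ring⟩
  · rw [show a - c * G = (a - a0) - c * (G - G0) by rw [hc]; ring]
    exact sub_mem ha' (mul_mem_V (mem_V.2 hcdeg) hGd (by omega))
  · rw [show b + c * F = (b - b0) + c * (F - F0) by rw [hb0c]; ring]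
    exact add_mem hb' (mul_mem_V (mem_V.2 hcdeg) hFd (by omega))

/-- The map `(a, b) ↦ a F + b G`. -/
noncomputable def comb (F G : MvPolynomial (Fin 2) k) (i j : ℕ) :
    V k i × V k j →ₗ[k] MvPolynomial (Fin 2) k :=
  ((LinearMap.mulRight k F).comp (V k i).subtype).coprod ((LinearMap.mulRight k G).comp (V k j).subtype)

theorem mem_comb_range {F G : MvPolynomial (Fin 2) k} {i j : ℕ} {p : MvPolynomial (Fin 2) k} :
    p ∈ LinearMap.range (comb F G i j) ↔ ∃ a ∈ V k i, ∃ b ∈ V k j, a * F + b * G = p := by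
  constructor
  · rintro ⟨⟨a, b⟩, rfl⟩
    exact ⟨a, a.2, b, b.2, rfl⟩
  · rintro ⟨a, ha, b, hb, rfl⟩
    exact ⟨(⟨a, ha⟩, ⟨b, hb⟩), rfl⟩

theorem Hyp.range_comb (h : Hyp n m F F0 G G0) {N : ℕ} (hN : n + m ≤ N) :
    LinearMap.range (comb F G (N - n) (N - m)) = (Ideal.span {F, G}).restrictScalars k ⊓ V k N := by
  have := h.hn
  have := h.hm
  refine le_antisymm (fun p hp => ?_) (fun p hp => ?_)
  · obtain ⟨a, ha, b, hb, rfl⟩ := mem_comb_range.1 hp
    exact ⟨Ideal.mem_span_pair.2 ⟨a, b, rfl⟩,
      add_mem (mul_mem_V ha h.F_mem (by omega)) (mul_mem_V hb h.symm.F_mem (by omega))⟩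
  · obtain ⟨a, b, rfl⟩ := Ideal.mem_span_pair.1 hp.1
    rw [mem_comb_range]
    suffices H : ∀ d : ℕ, ∀ a' ∈ V k (N + d - n), ∀ b' ∈ V k (N + d - m), a' * F + b' * G ∈ V k N →
        ∃ x ∈ V k (N - n), ∃ y ∈ V k (N - m), x * F + y * G = a' * F + b' * G by
      exact H (a.totalDegree + b.totalDegree + n + m) a (mem_V.2 (by omega)) b (mem_V.2 (by omega)) hp.2
    intro d
    induction d with
    | zero => exact fun a' ha' b' hb' _ => ⟨a', ha', b', hb', rfl⟩
    | succ d ih =>
      intro a' ha' b' hb' hs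
      obtain ⟨a1, ha1, b1, hb1, e⟩ := h.descend (M := N + d) (by omega) ha' hb'
        (mem_V.2 ((mem_V.1 hs).trans (by omega)))
      obtain ⟨x, hx, y, hy, e'⟩ := ih a1 ha1 b1 hb1 (e ▸ hs)
      exact ⟨x, hx, y, hy, e'.trans e⟩

theorem Hyp.finrank_ker (h : Hyp n m F F0 G G0) {N : ℕ} (hN : n + m ≤ N) :
    Module.finrank k (LinearMap.ker (comb F G (N - n) (N - m))) = Module.finrank k (V k (N - n - m)) := by
  have := h.hn
  have := h.hm
  have hF : F ≠ 0 := fun e0 => by have := h.deg_F; rw [e0, totalDegree_zero] at this; exact h.hn.ne this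
  have hG : G ≠ 0 := fun e0 => by have := h.symm.deg_F; rw [e0, totalDegree_zero] at this; exact h.hm.ne this
  let ψ : V k (N - n - m) →ₗ[k] V k (N - n) × V k (N - m) :=
    (((LinearMap.mulRight k G).comp (V k (N - n - m)).subtype).codRestrict _ fun c =>
        mul_mem_V c.2 h.symm.F_mem (by omega)).prod
      (-((LinearMap.mulRight k F).comp (V k (N - n - m)).subtype).codRestrict _ fun c =>
        mul_mem_V c.2 h.F_mem (by omega))
  have hψ : Function.Injective ψ := fun c c' e => by
    have e1 : (c : MvPolynomial (Fin 2) k) * G = (c' : MvPolynomial (Fin 2) k) * G :=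
      congrArg (fun x => (x.1 : MvPolynomial (Fin 2) k)) e
    exact Subtype.ext (mul_right_cancel₀ hG e1)
  rw [← LinearMap.finrank_range_of_inj hψ]
  refine congrArg (fun W : Submodule k (V k (N - n) × V k (N - m)) => Module.finrank k W) (le_antisymm ?_ ?_)
  · rintro ⟨a, b⟩ hab
    have e : (a : MvPolynomial (Fin 2) k) * F + (b : MvPolynomial (Fin 2) k) * G = 0 := LinearMap.mem_ker.1 hab
    obtain ⟨c, hc⟩ : G ∣ (a : MvPolynomial (Fin 2) k) :=
      h.isRelPrime.symm.dvd_of_dvd_mul_right ⟨-(b : MvPolynomial (Fin 2) k), by linear_combination e⟩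
    have hb : (b : MvPolynomial (Fin 2) k) = -(c * F) := by
      have h0 : G * ((b : MvPolynomial (Fin 2) k) + c * F) = 0 := by rw [hc] at e; linear_combination e
      exact eq_neg_of_add_eq_zero_left ((mul_eq_zero.1 h0).resolve_left hG)
    have hcd : c ∈ V k (N - n - m) := by
      rcases eq_or_ne c 0 with rfl | hc0
      · exact zero_mem _
      have h1 := mem_V.1 a.2
      rw [hc, totalDegree_mul_of_isDomain hG hc0, h.symm.deg_F] at h1
      exact mem_V.2 (by omega)
    refine ⟨⟨c, hcd⟩, Prod.ext (Subtype.ext ?_) (Subtype.ext ?_)⟩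
    · show c * G = (a : MvPolynomial (Fin 2) k)
      rw [hc, mul_comm]
    · show -(c * F) = (b : MvPolynomial (Fin 2) k)
      rw [hb]
  · rintro _ ⟨c, rfl⟩
    rw [LinearMap.mem_ker]
    show (c : MvPolynomial (Fin 2) k) * G * F + -((c : MvPolynomial (Fin 2) k) * F) * G = 0
    ring

theorem Hyp.finrank_quotient (h : Hyp n m F F0 G G0) :
    Module.finrank k (MvPolynomial (Fin 2) k ⧸ Ideal.span {F, G}) = n * m := by
  set I := (Ideal.span {F, G}).restrictScalars k with hI
  let π := (Ideal.Quotient.mkₐ k (Ideal.span {F, G})).toLinearMap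
  let W := fun N => (V k N).map π
  have hW : ∀ N, n + m ≤ N → Module.finrank k (W N) = n * m := fun N hN => by
    have h1 := LinearMap.finrank_range_add_finrank_ker (π.comp (V k N).subtype)
    rw [LinearMap.range_comp, Submodule.range_subtype] at h1
    have h2 : Module.finrank k (LinearMap.ker (π.comp (V k N).subtype)) = Module.finrank k (I ⊓ V k N : Submodule k _) := by
      have hk : LinearMap.ker π = I := by
        ext x
        rw [LinearMap.mem_ker]
        exact Ideal.Quotient.eq_zero_iff_mem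
      rw [LinearMap.ker_comp, hk, inf_comm, ← Submodule.map_comap_subtype,
        Submodule.finrank_map_subtype_eq]
    have h3 := LinearMap.finrank_range_add_finrank_ker (comb F G (N - n) (N - m))
    rw [h.range_comb hN, h.finrank_ker hN, Module.finrank_prod] at h3
    rw [h2] at h1
    have e0 := two_mul_finrank_restrictTotalDegree (k := k) N
    have e1 := two_mul_finrank_restrictTotalDegree (k := k) (N - n)
    have e2 := two_mul_finrank_restrictTotalDegree (k := k) (N - m)
    have e3 := two_mul_finrank_restrictTotalDegree (k := k) (N - n - m)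
    obtain ⟨t, rfl⟩ : ∃ t, N = n + m + t := ⟨N - (n + m), by omega⟩
    rw [show n + m + t - n - m = t by omega] at h3 e3
    rw [show n + m + t - n = m + t by omega] at h3 e1
    rw [show n + m + t - m = n + t by omega] at h3 e2
    rw [← hI] at h3
    show Module.finrank k ((V k (n + m + t)).map π) = n * m
    nlinarith
  have hmono : ∀ N, n + m ≤ N → W N = W (n + m) := fun N hN =>
    (Submodule.eq_of_le_of_finrank_le (Submodule.map_mono fun p hp => mem_V.2 ((mem_V.1 hp).trans hN))
      (by rw [hW _ hN, hW _ le_rfl])).symm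
  have htop : W (n + m) = ⊤ := eq_top_iff.2 fun z _ => by
    obtain ⟨p, rfl⟩ := Ideal.Quotient.mk_surjective z
    rw [← hmono (max (n + m) p.totalDegree) (le_max_left _ _)]
    exact Submodule.mem_map_of_mem (mem_V.2 (le_max_right _ _))
  rw [← hW _ le_rfl, htop, finrank_top]

theorem main (n m : ℕ) (f g : MvPolynomial (Fin 3) k) (hf : f.IsHomogeneous n) (hg : g.IsHomogeneous m)
    (hn : 0 < n) (hm : 0 < m) (hT : IsRelPrime (dehom 0 f) (dehom 0 g)) :
    Module.finrank k (MvPolynomial (Fin 2) k ⧸ Ideal.span ({dehom 1 f, dehom 1 g} : Set (MvPolynomial (Fin 2) k))) = n * m :=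
  Hyp.finrank_quotient ⟨hn, hm, (dehom_top hf).1, (dehom_top hg).1, (dehom_top hf).2, (dehom_top hg).2, hT⟩

end Groth.Agent.Gems6.Bezout
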