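import Mathlib

/-!
Generation from initial monomials.
-/

set_option autoImplicit false
universe u

open MvPolynomial MonomialOrder

namespace Groth.Agent.Gems6.CGen

variable {k : Type u} [Field k] {σ : Type} (mo : MonomialOrder σ)

theorem eq_of_degrees (E : Set (σ →₀ ℕ)) (U : Submodule k (MvPolynomial σ k))
    (hU : ∀ g ∈ U, ∀ d ∈ g.support, d ∈ E)
    (h : ∀ e ∈ E, ∃ g ∈ U, g ≠ 0 ∧ mo.degree g = e) :
    U = Submodule.span k {f : MvPolynomial σ k | ∃ e ∈ E, f = monomial e 1} := by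
  refine le_antisymm (fun g hg => ?_) ?_
  · rw [g.as_sum]
    refine Submodule.sum_mem _ fun d hd => ?_
    rw [show monomial d (coeff d g) = coeff d g • monomial d (1 : k) by rw [smul_monomial, smul_eq_mul, mul_one]]
    exact Submodule.smul_mem _ _ (Submodule.subset_span ⟨d, hU g hg d hd, rfl⟩)
  · suffices H : ∀ s : mo.syn, ∀ f : MvPolynomial σ k, (∀ d ∈ f.support, d ∈ E) → mo.toSyn (mo.degree f) = s → f ∈ U by
      refine Submodule.span_le.2 ?_
      rintro _ ⟨e, he, rfl⟩
      refine H _ _ (fun d hd => ?_) rfl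
      classical
      rw [support_monomial, if_neg one_ne_zero, Finset.mem_singleton] at hd
      exact hd ▸ he
    intro s
    induction s using WellFoundedLT.induction with
    | ind s ih =>
    intro f hf hs
    rcases eq_or_ne f 0 with rfl | hf0
    · exact zero_mem _
    obtain ⟨g, hg, hg0, hdeg⟩ := h (mo.degree f) (hf _ ((mo.degree_mem_support_iff f).2 hf0))
    set c := coeff (mo.degree f) f / coeff (mo.degree g) g
    have hlc : coeff (mo.degree g) g ≠ 0 := mem_support_iff.1 ((mo.degree_mem_support_iff g).2 hg0)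
    set f' := f - c • g with hf'
    have hmem : f' ∈ U → f ∈ U := fun h' => by
      have := add_mem h' (U.smul_mem c hg)
      rwa [hf', sub_add_cancel] at this
    refine hmem ?_
    rcases eq_or_ne f' 0 with h0 | h0
    · rw [h0]; exact zero_mem _
    have hsupp : ∀ d ∈ f'.support, d ∈ E := fun d hd => by
      classical
      rcases Finset.mem_union.1 (MvPolynomial.support_sub _ f (c • g) hd) with h | h
      · exact hf d h
      · exact hU g hg d (MvPolynomial.support_smul h)
    refine ih _ ?_ f' hsupp rfl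
    rw [← hs]
    have hle : mo.toSyn (mo.degree f') ≤ mo.toSyn (mo.degree f) :=
      mo.degree_sub_le.trans (max_le le_rfl (hdeg ▸ mo.degree_smul_le))
    refine lt_of_le_of_ne hle fun e => ?_
    have hz : coeff (mo.degree f') f' = 0 := by
      rw [mo.toSyn.injective e, hf', coeff_sub, coeff_smul, smul_eq_mul]
      show coeff (mo.degree f) f - c * coeff (mo.degree f) g = 0
      simp only [c]
      rw [hdeg] at hlc ⊢
      rw [div_mul_cancel₀ _ hlc, sub_self]
    exact mem_support_iff.1 ((mo.degree_mem_support_iff f').2 h0) hz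

theorem main (mo : MonomialOrder (Fin 4)) (a b c : ℕ) (W : Submodule k (MvPolynomial (Fin 4) k))
    (hW : W ≤ Submodule.span k {f : MvPolynomial (Fin 4) k | ∃ e : Fin 4 →₀ ℕ, e 2 + e 3 = a ∧ e 0 + e 1 = b + e 2 ∧ f = MvPolynomial.monomial e 1})
    (h₁ : ∀ i j : ℕ, i ≤ a → j * (c + 1) < b + i → ∃ w ∈ W, w ≠ 0 ∧
      mo.degree w = Finsupp.single 0 (b + i - j * (c + 1)) + Finsupp.single 1 (j * (c + 1)) +
        Finsupp.single 2 i + Finsupp.single 3 (a - i))
    (h₂ : ∀ i : ℕ, i ≤ a → ∃ w ∈ W, w ≠ 0 ∧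
      mo.degree w = Finsupp.single 1 (b + i) + Finsupp.single 2 i + Finsupp.single 3 (a - i)) :
    W * Submodule.span k {f : MvPolynomial (Fin 4) k | ∃ e : Fin 4 →₀ ℕ, e 2 + e 3 = 0 ∧ e 0 + e 1 = c + e 2 ∧ f = MvPolynomial.monomial e 1} =
      Submodule.span k {f : MvPolynomial (Fin 4) k | ∃ e : Fin 4 →₀ ℕ, e 2 + e 3 = a ∧ e 0 + e 1 = (b + c) + e 2 ∧ f = MvPolynomial.monomial e 1} := by
  classical
  have hset : ∀ A B : ℕ, {f : MvPolynomial (Fin 4) k | ∃ e : Fin 4 →₀ ℕ, e 2 + e 3 = A ∧ e 0 + e 1 = B + e 2 ∧ f = MvPolynomial.monomial e 1} =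
      {f | ∃ e ∈ {e : Fin 4 →₀ ℕ | e 2 + e 3 = A ∧ e 0 + e 1 = B + e 2}, f = monomial e (1 : k)} := fun A B => by
    ext f; simp [and_assoc]
  have supp : ∀ A B : ℕ, ∀ g ∈ Submodule.span k {f : MvPolynomial (Fin 4) k | ∃ e : Fin 4 →₀ ℕ, e 2 + e 3 = A ∧ e 0 + e 1 = B + e 2 ∧ f = MvPolynomial.monomial e 1},
      ∀ d ∈ g.support, d 2 + d 3 = A ∧ d 0 + d 1 = B + d 2 := by
    intro A B g hg
    induction hg using Submodule.span_induction with
    | mem x hx =>
      obtain ⟨e, h1, h2, rfl⟩ := hx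
      intro d hd
      rw [support_monomial, if_neg one_ne_zero, Finset.mem_singleton] at hd
      exact hd ▸ ⟨h1, h2⟩
    | zero => simp
    | add x y _ _ hx hy =>
      intro d hd
      rcases Finset.mem_union.1 (MvPolynomial.support_add hd) with h | h
      exacts [hx d h, hy d h]
    | smul r x _ hx => exact fun d hd => hx d (MvPolynomial.support_smul hd)
  rw [hset a (b + c)]
  refine eq_of_degrees mo _ _ (fun g hg => ?_) (fun e he => ?_)
  · refine Submodule.mul_induction_on hg (fun x hx y hy d hd => ?_) (fun x y hx hy d hd => ?_)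
    · obtain ⟨d₁, hd₁, d₂, hd₂, rfl⟩ := Finset.mem_add.1 (MvPolynomial.support_mul x y hd)
      have h1 := supp a b x (hW hx) d₁ hd₁
      have h2 := supp 0 c y hy d₂ hd₂
      simp only [Set.mem_setOf_eq, Finsupp.add_apply]
      omega
    · rcases Finset.mem_union.1 (MvPolynomial.support_add hd) with h | h
      exacts [hx d h, hy d h]
  · obtain ⟨he1, he2⟩ := he
    have hext : ∀ v : ℕ, v ≤ e 1 → e 1 ≤ v + c → v ≤ b + e 2 →
        (∃ w ∈ W, w ≠ 0 ∧ mo.degree w = Finsupp.single 0 (b + e 2 - v) + Finsupp.single 1 v +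
          Finsupp.single 2 (e 2) + Finsupp.single 3 (a - e 2)) →
        ∃ g ∈ W * Submodule.span k {f : MvPolynomial (Fin 4) k | ∃ e : Fin 4 →₀ ℕ, e 2 + e 3 = 0 ∧ e 0 + e 1 = c + e 2 ∧ f = MvPolynomial.monomial e 1},
          g ≠ 0 ∧ mo.degree g = e := by
      rintro v hv1 hv2 hv3 ⟨w, hw, hw0, hwd⟩
      set t : Fin 4 →₀ ℕ := Finsupp.single 0 (e 0 - (b + e 2 - v)) + Finsupp.single 1 (e 1 - v)
      have ht : (monomial t (1 : k)) ≠ 0 := fun h => one_ne_zero (monomial_eq_zero.1 h)
      refine ⟨w * monomial t 1, Submodule.mul_mem_mul hw (Submodule.subset_span ⟨t, ?_, ?_, rfl⟩),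
        mul_ne_zero hw0 ht, ?_⟩
      · simp [t]
      · simp [t]
        omega
      · rw [mo.degree_mul hw0 ht, mo.degree_monomial, if_neg one_ne_zero, hwd]
        ext i
        fin_cases i <;> simp [t] <;> omega
    rcases Nat.lt_or_ge (e 1) (b + e 2) with h | h
    · have hd := Nat.div_add_mod' (e 1) (c + 1)
      have hm : e 1 % (c + 1) < c + 1 := Nat.mod_lt _ (Nat.succ_pos c)
      exact hext (e 1 / (c + 1) * (c + 1)) (by omega) (by omega) (by omega)
        (h₁ (e 2) (e 1 / (c + 1)) (by omega) (by omega))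
    · refine hext (b + e 2) h (by omega) le_rfl ?_
      obtain ⟨w, hw, hw0, hwd⟩ := h₂ (e 2) (by omega)
      exact ⟨w, hw, hw0, by rw [hwd, Nat.sub_self, Finsupp.single_zero, zero_add]⟩

end Groth.Agent.Gems6.CGen
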