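import Mathlib

/-!
Descent of finitely presented modules to a stage of a direct limit.
-/

set_option autoImplicit false
universe u

open TensorProduct

namespace Groth.Agent.Gems6.FPDescent

theorem descend {R D : Type u} [CommRing R] [CommRing D] [Algebra R D] {n : ℕ} {μ : Type} [Finite μ]
    (r : μ → (Fin n → R)) (M : Type u) [AddCommGroup M] [Module D M]
    (f : (Fin n → D) →ₗ[D] M) (hf : Function.Surjective f)
    (hker : LinearMap.ker f = Submodule.span D (Set.range fun j => algebraMap R D ∘ r j)) :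
    Nonempty (M ≃ₗ[D] D ⊗[R] ((Fin n → R) ⧸ Submodule.span R (Set.range r))) := by
  classical
  set W := Submodule.span R (Set.range r)
  let α : (Fin n → D) →ₗ[D] D ⊗[R] ((Fin n → R) ⧸ W) :=
    Fintype.linearCombination D fun j => (1 : D) ⊗ₜ[R] W.mkQ (Pi.single j 1)
  have hα : ∀ v : Fin n → R, α (algebraMap R D ∘ v) = (1 : D) ⊗ₜ[R] W.mkQ v := fun v => by
    have e : v = ∑ j, v j • (Pi.single j 1 : Fin n → R) := by
      ext i; simp [Finset.sum_apply, Pi.single_apply]
    conv_rhs => rw [e, map_sum, tmul_sum]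
    simp only [α, Fintype.linearCombination_apply, Function.comp_apply, map_smul, tmul_smul, algebraMap_smul]
  have hαker : LinearMap.ker f ≤ LinearMap.ker α := by
    rw [hker, Submodule.span_le]
    rintro _ ⟨j, rfl⟩
    show α (algebraMap R D ∘ r j) = 0
    rw [hα, Submodule.mkQ_apply, (Submodule.Quotient.mk_eq_zero W).2 (Submodule.subset_span ⟨j, rfl⟩), tmul_zero]
  have hsurj : Function.Surjective α := fun z => by
    induction z with
    | zero => exact ⟨0, map_zero _⟩
    | add a b ha hb =>
      obtain ⟨a', rfl⟩ := ha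
      obtain ⟨b', rfl⟩ := hb
      exact ⟨a' + b', map_add _ _ _⟩
    | tmul d q =>
      obtain ⟨v, rfl⟩ := W.mkQ_surjective q
      exact ⟨d • (algebraMap R D ∘ v), by rw [map_smul, hα, smul_tmul', smul_eq_mul, mul_one]⟩
  have hle : LinearMap.ker α ≤ LinearMap.ker f := by
    letI : Module R M := Module.compHom M (algebraMap R D)
    haveI : IsScalarTower R D M := IsScalarTower.of_algebraMap_smul fun _ _ => rfl
    let g : ((Fin n → R) ⧸ W) →ₗ[R] M := W.liftQ ((f.restrictScalars R) ∘ₗ (Algebra.linearMap R D).compLeft (Fin n)) (by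
      rw [Submodule.span_le]
      rintro _ ⟨j, rfl⟩
      show f (algebraMap R D ∘ r j) = 0
      rw [← LinearMap.mem_ker, hker]
      exact Submodule.subset_span ⟨j, rfl⟩)
    have hcomp : ∀ v, g.liftBaseChange D (α v) = f v := fun v => by
      have : (g.liftBaseChange D).comp α = f := LinearMap.pi_ext' fun j => LinearMap.ext_ring (by
        have e : (Pi.single j 1 : Fin n → D) = algebraMap R D ∘ (Pi.single j 1 : Fin n → R) := by
          ext i; by_cases h : i = j <;> simp [h]
        simp only [LinearMap.comp_apply, LinearMap.single_apply]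
        rw [e, hα, LinearMap.liftBaseChange_tmul, one_smul]
        rfl)
      exact LinearMap.congr_fun this v
    exact fun v hv => LinearMap.mem_ker.2 ((hcomp v).symm.trans (by rw [LinearMap.mem_ker.1 hv, map_zero]))
  exact ⟨(f.quotKerEquivOfSurjective hf).symm ≪≫ₗ Submodule.quotEquivOfEq _ _ (le_antisymm hαker hle) ≪≫ₗ
    α.quotKerEquivOfSurjective hsurj⟩

theorem main (ι : Type u) [Preorder ι] [Nonempty ι] [IsDirectedOrder ι]
    (G : ι → Type u) [∀ i, CommRing (G i)] (f : ∀ i j, i ≤ j → G i →+* G j)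
    [DirectedSystem G (fun i j h ↦ f i j h)] (M : Type u) [AddCommGroup M]
    [Module (Ring.DirectLimit G (fun i j h ↦ f i j h)) M]
    [Module.FinitePresentation (Ring.DirectLimit G (fun i j h ↦ f i j h)) M] :
    ∃ (i : ι) (Mi : Type u) (_ : AddCommGroup Mi) (_ : Module (G i) Mi), Module.FinitePresentation (G i) Mi ∧
      letI : Algebra (G i) (Ring.DirectLimit G (fun i j h ↦ f i j h)) :=
        (Ring.DirectLimit.of G (fun i j h ↦ f i j h) i).toAlgebra
      Nonempty (M ≃ₗ[Ring.DirectLimit G (fun i j h ↦ f i j h)] (Ring.DirectLimit G (fun i j h ↦ f i j h)) ⊗[G i] Mi) := by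
  classical
  let D := Ring.DirectLimit G (fun i j h ↦ f i j h)
  obtain ⟨n, g, hg⟩ := Module.Finite.exists_fin' D M
  obtain ⟨m, s, hs⟩ := Submodule.fg_iff_exists_fin_generating_family.1 (Module.FinitePresentation.fg_ker g hg)
  choose ix x hx using fun p : Fin m × Fin n => Ring.DirectLimit.exists_of (s p.1 p.2)
  obtain ⟨i, hi⟩ := Finite.exists_le ix
  letI : Algebra (G i) D := (Ring.DirectLimit.of G (fun i j h ↦ f i j h) i).toAlgebra
  let r : Fin m → (Fin n → G i) := fun j l => f _ _ (hi (j, l)) (x (j, l))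
  refine ⟨i, (Fin n → G i) ⧸ Submodule.span (G i) (Set.range r), inferInstance, inferInstance, ?_, ?_⟩
  · exact Module.finitePresentation_of_surjective _ (Submodule.mkQ_surjective _)
      (by rw [Submodule.ker_mkQ]; exact Submodule.fg_span (Set.finite_range r))
  · refine descend (D := D) r M g hg ?_
    rw [← hs]
    congr 2
    funext j l
    show s j l = Ring.DirectLimit.of G (fun i j h ↦ f i j h) i (f _ _ (hi (j, l)) (x (j, l)))
    rw [← hx (j, l), Ring.DirectLimit.of_f]

end Groth.Agent.Gems6.FPDescent
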