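import Mathlib

/-!
Four term free presentations of reflexive modules that are free away from a closed set.
-/

set_option autoImplicit false
universe u

namespace Groth.Agent.Gems6.FourTerm

variable {B : Type u} [CommRing B]

/-- The localisation of a module presented by finitely many vectors. -/
theorem coker_equiv (R : Type u) [CommRing R] [Algebra B R] (S : Submonoid B) [IsLocalization S R] {n : ℕ} {μ : Type}
    (v : μ → (Fin n → B)) {N : Type u} [AddCommGroup N] [Module B N]
    (e : ((Fin n → B) ⧸ Submodule.span B (Set.range v)) ≃ₗ[B] N)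
    {N' : Type u} [AddCommGroup N'] [Module B N'] [Module R N'] [IsScalarTower B R N'] (g : N →ₗ[B] N')
    [IsLocalizedModule S g] :
    Nonempty (((Fin n → R) ⧸ Submodule.span R (Set.range fun j => algebraMap B R ∘ v j)) ≃ₗ[R] N') := by
  let f : (Fin n → B) →ₗ[B] (Fin n → R) := LinearMap.pi fun i => Algebra.linearMap B R ∘ₗ LinearMap.proj i
  haveI : IsLocalizedModule S f := IsLocalizedModule.pi S fun _ => Algebra.linearMap B R
  let W := Submodule.span B (Set.range v)
  have hW : W.localized' R S f = Submodule.span R (Set.range fun j => algebraMap B R ∘ v j) := by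
    rw [Submodule.localized'_span, ← Set.range_comp]
    rfl
  haveI := IsLocalization.linearMap_compatibleSMul S R
  haveI hloc : IsLocalizedModule S (g ∘ₗ e.toLinearMap) := IsLocalizedModule.of_linearEquiv_right S g e
  let E := IsLocalizedModule.linearEquiv S (W.toLocalizedQuotient' R S f) (g ∘ₗ e.toLinearMap)
  exact ⟨Submodule.quotEquivOfEq _ _ hW.symm ≪≫ₗ E.extendScalarsOfIsLocalization S R⟩

/-- A regular map has projective cokernel. -/
theorem projective_coker_of_regular {R : Type u} [CommRing R] {X Y : Type u} [AddCommGroup X] [Module R X]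
    [AddCommGroup Y] [Module R Y] [Module.Projective R Y] (φ : X →ₗ[R] Y) (s : Y →ₗ[R] X) (h : φ ∘ₗ s ∘ₗ φ = φ) :
    Module.Projective R (Y ⧸ LinearMap.range φ) := by
  refine Module.Projective.of_split ((LinearMap.range φ).liftQ (LinearMap.id - φ ∘ₗ s) ?_) (LinearMap.range φ).mkQ ?_
  · rintro _ ⟨x, rfl⟩
    show φ x - φ (s (φ x)) = 0
    rw [show φ (s (φ x)) = φ x from LinearMap.congr_fun h x, sub_self]
  · refine LinearMap.ext fun z => ?_
    obtain ⟨y, rfl⟩ := Submodule.Quotient.mk_surjective _ z
    show Submodule.Quotient.mk (y - φ (s y)) = (Submodule.Quotient.mk y : Y ⧸ LinearMap.range φ)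
    rw [Submodule.Quotient.eq]
    exact ⟨-s y, by simp⟩

theorem exists_regular {R : Type u} [CommRing R] {X Y : Type u} [AddCommGroup X] [Module R X]
    [AddCommGroup Y] [Module R Y] [Module.Projective R Y] (φ : X →ₗ[R] Y)
    (h : Module.Projective R (Y ⧸ LinearMap.range φ)) : ∃ s : Y →ₗ[R] X, φ ∘ₗ s ∘ₗ φ = φ := by
  obtain ⟨σ, hσ⟩ := Module.projective_lifting_property (LinearMap.range φ).mkQ LinearMap.id (Submodule.mkQ_surjective _)
  let π : Y →ₗ[R] LinearMap.range φ := (LinearMap.id - σ ∘ₗ (LinearMap.range φ).mkQ).codRestrict _ fun y => by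
    rw [← Submodule.Quotient.mk_eq_zero]
    have := LinearMap.congr_fun hσ ((LinearMap.range φ).mkQ y)
    simp only [LinearMap.comp_apply, LinearMap.id_apply, Submodule.mkQ_apply] at this
    simp [this]
  obtain ⟨s, hs⟩ := Module.projective_lifting_property φ.rangeRestrict π φ.surjective_rangeRestrict
  refine ⟨s, LinearMap.ext fun x => ?_⟩
  have := congrArg Subtype.val (LinearMap.congr_fun hs (φ x))
  simp only [LinearMap.comp_apply] at this ⊢
  refine this.trans ?_
  show φ x - σ ((LinearMap.range φ).mkQ (φ x)) = φ x
  rw [Submodule.mkQ_apply, (Submodule.Quotient.mk_eq_zero _).2 (show φ x ∈ LinearMap.range φ from ⟨x, rfl⟩), map_zero, sub_zero]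

/-- Transposition preserves projectivity of the cokernel. -/
theorem projective_transpose {R : Type u} [CommRing R] {m n : ℕ} (P : Matrix (Fin n) (Fin m) R)
    (h : Module.Projective R ((Fin n → R) ⧸ LinearMap.range (Matrix.toLin' P))) :
    Module.Projective R ((Fin m → R) ⧸ LinearMap.range (Matrix.toLin' P.transpose)) := by
  obtain ⟨s, hs⟩ := exists_regular _ h
  refine projective_coker_of_regular _ (Matrix.toLin' (LinearMap.toMatrix' s).transpose) ?_
  have hs' : P * LinearMap.toMatrix' s * P = P := by
    have := congrArg LinearMap.toMatrix' hs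
    rw [LinearMap.toMatrix'_comp, LinearMap.toMatrix'_comp, LinearMap.toMatrix'_toLin', ← Matrix.mul_assoc] at this
    exact this
  rw [← Matrix.toLin'_mul, ← Matrix.toLin'_mul, ← Matrix.transpose_mul, ← Matrix.transpose_mul, hs']

theorem range_toLin' {R : Type u} [CommRing R] {m n : ℕ} (P : Matrix (Fin n) (Fin m) R) :
    LinearMap.range (Matrix.toLin' P) = Submodule.span R (Set.range fun j => P.col j) := by
  rw [Matrix.range_toLin']

theorem exists_presentation [IsNoetherianRing B] (J : Ideal B) (F : Type u) [AddCommGroup F] [Module B F]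
    [Module.Finite B F] [Module.IsReflexive B F]
    (hU : ∀ q : PrimeSpectrum B, ¬ J ≤ q.asIdeal →
      Module.Free (Localization.AtPrime q.asIdeal) (LocalizedModule q.asIdeal.primeCompl F)) :
    ∃ (n m : ℕ) (g : F →ₗ[B] (Fin n → B)) (h : (Fin n → B) →ₗ[B] (Fin m → B)),
      Function.Injective g ∧ Function.Exact g h ∧
      ∀ q : PrimeSpectrum B, ¬ J ≤ q.asIdeal →
        Module.Free (Localization.AtPrime q.asIdeal)
          (LocalizedModule q.asIdeal.primeCompl ((Fin m → B) ⧸ LinearMap.range h)) := by
  classical
  haveI : Module.FinitePresentation B F := Module.finitePresentation_of_finite B F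
  haveI : Module.Finite B (Module.Dual B F) := inferInstance
  obtain ⟨n, p, hp⟩ := Module.Finite.exists_fin' B (Module.Dual B F)
  obtain ⟨m, t, ht⟩ := Submodule.fg_iff_exists_fin_generating_family.1 (IsNoetherian.noetherian (LinearMap.ker p))
  let P : Matrix (Fin n) (Fin m) B := Matrix.of fun i j => t j i
  have hcol : (fun j => P.col j) = t := rfl
  let g : F →ₗ[B] (Fin n → B) := LinearMap.pi fun i => p (Pi.single i 1)
  have hg : ∀ (x : F) (c : Fin n → B), p c x = ∑ i, c i * g x i := fun x c => by
    conv_lhs => rw [show c = ∑ i, c i • (Pi.single i 1 : Fin n → B) by ext i; simp [Finset.sum_apply, Pi.single_apply]]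
    simp [g]
  refine ⟨n, m, g, Matrix.toLin' P.transpose, fun x y hxy => ?_, fun v => ?_, fun q hq => ?_⟩
  · refine (Module.bijective_dual_eval B F).1 (LinearMap.ext fun l => ?_)
    obtain ⟨c, rfl⟩ := hp l
    show p c x = p c y
    rw [hg, hg, hxy]
  · have key : ∀ c : Fin m, Matrix.toLin' P.transpose v c = ∑ i, t c i * v i := fun c => by
      simp [Matrix.toLin'_apply, Matrix.mulVec, dotProduct, P]
    constructor
    · intro hv
      let L : (Fin n → B) →ₗ[B] B := Fintype.linearCombination B v
      have hL : ∀ c, L c = ∑ i, c i * v i := fun c => by simp [L, Fintype.linearCombination_apply]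
      have hker : LinearMap.ker p ≤ LinearMap.ker L := by
        rw [← ht, Submodule.span_le]
        rintro _ ⟨c, rfl⟩
        show L (t c) = 0
        rw [hL, ← key, hv]
        rfl
      obtain ⟨x, hx⟩ := (Module.bijective_dual_eval B F).2
        ((LinearMap.ker p).liftQ L hker ∘ₗ (p.quotKerEquivOfSurjective hp).symm.toLinearMap)
      refine ⟨x, funext fun i => ?_⟩
      have := LinearMap.congr_fun hx (p (Pi.single i 1))
      rw [Module.Dual.eval_apply, LinearMap.comp_apply] at this
      refine this.trans ?_
      show (LinearMap.ker p).liftQ L hker ((p.quotKerEquivOfSurjective hp).symm (p (Pi.single i 1))) = v i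
      rw [LinearMap.quotKerEquivOfSurjective_symm_apply, Submodule.liftQ_apply, hL]
      simp [Pi.single_apply]
    · rintro ⟨x, rfl⟩
      refine funext fun c => ?_
      rw [key, ← hg]
      have : t c ∈ LinearMap.ker p := ht ▸ Submodule.subset_span ⟨c, rfl⟩
      rw [LinearMap.mem_ker.1 this]
      rfl
  · haveI := hU q hq
    let R := Localization.AtPrime q.asIdeal
    let e : ((Fin n → B) ⧸ Submodule.span B (Set.range fun j => P.col j)) ≃ₗ[B] Module.Dual B F :=
      Submodule.quotEquivOfEq _ _ (by rw [hcol]; exact ht) ≪≫ₗ p.quotKerEquivOfSurjective hp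
    obtain ⟨e'⟩ := coker_equiv R q.asIdeal.primeCompl (fun j => P.col j) e
      (N' := LocalizedModule q.asIdeal.primeCompl (Module.Dual B F))
      (LocalizedModule.mkLinearMap q.asIdeal.primeCompl (Module.Dual B F))
    haveI : Module.Finite R (LocalizedModule q.asIdeal.primeCompl F) :=
      Module.Finite.of_isLocalizedModule q.asIdeal.primeCompl (LocalizedModule.mkLinearMap q.asIdeal.primeCompl F)
    let one : LocalizedModule q.asIdeal.primeCompl B ≃ₗ[R] R :=
      (IsLocalizedModule.linearEquiv q.asIdeal.primeCompl (LocalizedModule.mkLinearMap q.asIdeal.primeCompl B)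
        (Algebra.linearMap B R)).extendScalarsOfIsLocalization q.asIdeal.primeCompl R
    let dual : LocalizedModule q.asIdeal.primeCompl (Module.Dual B F) ≃ₗ[R]
        Module.Dual R (LocalizedModule q.asIdeal.primeCompl F) :=
      (Module.FinitePresentation.linearEquivMapExtendScalars q.asIdeal.primeCompl).extendScalarsOfIsLocalization
        q.asIdeal.primeCompl R ≪≫ₗ one.congrRight
    have hproj : Module.Projective R ((Fin n → R) ⧸ LinearMap.range (Matrix.toLin' (P.map (algebraMap B R)))) := by
      rw [range_toLin']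
      exact Module.Projective.of_equiv (e' ≪≫ₗ dual).symm
    have h2 := projective_transpose _ hproj
    rw [range_toLin'] at h2
    let e2 : ((Fin m → B) ⧸ Submodule.span B (Set.range fun i => P.transpose.col i)) ≃ₗ[B]
        ((Fin m → B) ⧸ LinearMap.range (Matrix.toLin' P.transpose)) :=
      Submodule.quotEquivOfEq _ _ (range_toLin' _).symm
    obtain ⟨e3⟩ := coker_equiv R q.asIdeal.primeCompl (fun i => P.transpose.col i) e2
      (N' := LocalizedModule q.asIdeal.primeCompl ((Fin m → B) ⧸ LinearMap.range (Matrix.toLin' P.transpose)))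
      (LocalizedModule.mkLinearMap q.asIdeal.primeCompl _)
    haveI : Module.Finite R (LocalizedModule q.asIdeal.primeCompl ((Fin m → B) ⧸ LinearMap.range (Matrix.toLin' P.transpose))) :=
      Module.Finite.equiv e3
    haveI : Module.Projective R (LocalizedModule q.asIdeal.primeCompl ((Fin m → B) ⧸ LinearMap.range (Matrix.toLin' P.transpose))) := by
      haveI : Module.Projective R ((Fin m → R) ⧸ Submodule.span R (Set.range fun j => algebraMap B R ∘ P.transpose.col j)) := h2
      exact Module.Projective.of_equiv e3
    haveI : Module.Flat R (LocalizedModule q.asIdeal.primeCompl ((Fin m → B) ⧸ LinearMap.range (Matrix.toLin' P.transpose))) :=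
      inferInstance
    exact Module.free_of_flat_of_isLocalRing

end Groth.Agent.Gems6.FourTerm
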