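import Mathlib

/-!
The Hasse–Davenport relation.
-/

set_option autoImplicit false

open Polynomial UniqueFactorizationMonoid

namespace Groth.Agent.Gems6.HasseDavenport

variable {F : Type} [Field F] [Fintype F] {R : Type} [CommRing R] [IsDomain R] [CharZero R]
  (χ : MulChar F R) (ψ : AddChar F R)

/-- The weight of a monic polynomial. -/
noncomputable def w (f : F[X]) : R := χ ((-1) ^ f.natDegree * f.coeff 0) * ψ (-f.nextCoeff)

theorem w_mul {f g : F[X]} (hf : f.Monic) (hg : g.Monic) : w χ ψ (f * g) = w χ ψ f * w χ ψ g := by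
  rw [w, w, w, hf.natDegree_mul hg, mul_coeff_zero, Monic.nextCoeff_mul hf hg, neg_add, AddChar.map_add_eq_mul,
    pow_add, mul_mul_mul_comm ((-1 : F) ^ f.natDegree), map_mul, mul_mul_mul_comm]

theorem w_one : w χ ψ (1 : F[X]) = 1 := by
  simp [w, nextCoeff]

theorem w_pow {f : F[X]} (hf : f.Monic) : ∀ n : ℕ, w χ ψ (f ^ n) = w χ ψ f ^ n
  | 0 => by rw [pow_zero, pow_zero, w_one]
  | n + 1 => by rw [pow_succ, pow_succ, w_mul χ ψ (hf.pow n) hf, w_pow hf n]

/-- The monic polynomial with given coefficients. -/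
noncomputable def mk (N : ℕ) (v : Fin N → F) : F[X] := X ^ N + ∑ i : Fin N, C (v i) * X ^ (i : ℕ)

theorem mk_spec (N : ℕ) (v : Fin N → F) :
    (mk N v).Monic ∧ (mk N v).natDegree = N ∧ ∀ i : Fin N, (mk N v).coeff i = v i := by
  have hlt : (∑ i : Fin N, C (v i) * X ^ (i : ℕ) : F[X]).degree < N :=
    degree_sum_fin_lt v
  have hm : (mk N v).Monic := monic_X_pow_add hlt
  refine ⟨hm, ?_, fun i => ?_⟩
  · refine natDegree_eq_of_degree_eq_some ?_
    rw [mk, degree_add_eq_left_of_degree_lt (by rwa [degree_X_pow]), degree_X_pow]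
  · rw [mk, coeff_add, coeff_X_pow, if_neg i.2.ne, zero_add, finset_sum_coeff, Finset.sum_eq_single i]
    · simp
    · intro j _ hj
      rw [coeff_C_mul_X_pow, if_neg fun e => hj (Fin.ext e.symm)]
    · simp

theorem mk_injective (N : ℕ) : Function.Injective (mk (F := F) N) := fun v v' h => funext fun i => by
  rw [← (mk_spec N v).2.2 i, ← (mk_spec N v').2.2 i, h]

theorem exists_mk {N : ℕ} {f : F[X]} (hf : f.Monic) (hd : f.natDegree = N) : ∃ v, mk N v = f := by
  refine ⟨fun i => f.coeff i, ?_⟩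
  subst hd
  conv_rhs => rw [hf.as_sum, ← Fin.sum_univ_eq_sum_range (fun i => C (f.coeff i) * X ^ i)]
  rfl

open Classical in
/-- Monic polynomials of given degree. -/
noncomputable def MS (N : ℕ) : Finset F[X] := (Finset.univ : Finset (Fin N → F)).image (mk N)

theorem mem_MS {N : ℕ} {f : F[X]} : f ∈ MS N ↔ f.Monic ∧ f.natDegree = N := by
  classical
  simp only [MS, Finset.mem_image, Finset.mem_univ, true_and]
  exact ⟨by rintro ⟨v, rfl⟩; exact ⟨(mk_spec N v).1, (mk_spec N v).2.1⟩, fun h => exists_mk h.1 h.2⟩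

open Classical in
/-- Monic irreducible polynomials of given degree. -/
noncomputable def Irr (d : ℕ) : Finset F[X] := (MS d).filter Irreducible

theorem mem_Irr {d : ℕ} {f : F[X]} : f ∈ Irr d ↔ f.Monic ∧ f.natDegree = d ∧ Irreducible f := by
  classical
  simp [Irr, mem_MS, and_assoc]

/-- The sums of weights. -/
noncomputable def S (N : ℕ) : R := ∑ f ∈ MS N, w χ ψ f

/-- The power sums. -/
noncomputable def T (k : ℕ) : R := ∑ d ∈ k.divisors, ∑ P ∈ Irr d, (d : R) * w χ ψ P ^ (k / d)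

theorem S_zero : S χ ψ 0 = 1 := by
  classical
  rw [S, MS, Finset.sum_image (mk_injective 0).injOn, Fintype.sum_unique]
  simp [mk, w_one]

theorem S_one : S χ ψ 1 = ∑ x, χ x * ψ x := by
  classical
  rw [S, MS, Finset.sum_image (mk_injective 1).injOn]
  refine Fintype.sum_equiv ((Equiv.funUnique (Fin 1) F).trans (Equiv.neg F)) _ _ fun v => ?_
  have e : mk 1 v = X + C (v 0) := by simp [mk]
  simp [w, e, Equiv.funUnique]

theorem S_two_add (hψ : ψ ≠ 1) (M : ℕ) : S χ ψ (M + 2) = 0 := by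
  classical
  rw [S, MS, Finset.sum_image (mk_injective _).injOn]
  have e : ∀ v : Fin (M + 2) → F, w χ ψ (mk (M + 2) v) =
      χ ((-1) ^ (M + 2) * v 0) * ψ (-v (Fin.last (M + 1))) := fun v => by
    rw [w, (mk_spec _ v).2.1, nextCoeff_of_natDegree_pos (by rw [(mk_spec _ v).2.1]; omega), (mk_spec _ v).2.1]
    congr 3
    · exact (mk_spec _ v).2.2 0
    · exact (mk_spec _ v).2.2 (Fin.last (M + 1))
  simp_rw [e]
  rw [← (Fin.snocEquiv fun _ => F).sum_comp, Fintype.sum_prod_type, Finset.sum_comm]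
  refine Finset.sum_eq_zero fun v _ => ?_
  simp only [Fin.snocEquiv, Equiv.coe_fn_mk]
  simp_rw [Fin.snoc_last, show (0 : Fin (M + 2)) = Fin.castSucc 0 from rfl, Fin.snoc_castSucc, ← Finset.mul_sum]
  rw [Fintype.sum_equiv (Equiv.neg F) (fun a => ψ (-a)) ψ (fun a => rfl), AddChar.sum_eq_zero_of_ne_one hψ, mul_zero]

theorem recursion (N : ℕ) : (N : R) * S χ ψ N = ∑ k ∈ Finset.Icc 1 N, T χ ψ k * S χ ψ (N - k) := by
  classical
  have hdeg : ∀ f ∈ MS (F := F) N, N = ∑ P ∈ (normalizedFactors f).toFinset, (normalizedFactors f).count P * P.natDegree := by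
    intro f hf
    obtain ⟨hm, hd⟩ := mem_MS.1 hf
    have hprod : (normalizedFactors f).prod = f := by
      rw [prod_normalizedFactors_eq hm.ne_zero, hm.normalize_eq_self]
    conv_lhs => rw [← hd, ← hprod]
    rw [natDegree_multiset_prod _ (zero_notMem_normalizedFactors f), Finset.sum_multiset_map_count]
    simp only [smul_eq_mul]
  have hfac : ∀ {f P : F[X]}, P ∈ normalizedFactors f → P.Monic ∧ Irreducible P := fun {f P} hP => by
    have hirr := irreducible_of_normalized_factor P hP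
    refine ⟨?_, hirr⟩
    rw [← normalize_normalized_factor P hP]
    exact monic_normalize hirr.ne_zero
  let A : Finset (Σ _ : F[X], Σ _ : F[X], ℕ) :=
    (MS N).sigma fun f => (normalizedFactors f).toFinset.sigma fun P => Finset.Icc 1 ((normalizedFactors f).count P)
  let B : Finset (Σ k : ℕ, (Σ _ : ℕ, F[X]) × F[X]) :=
    (Finset.Icc 1 N).sigma fun k => (k.divisors.sigma fun d => Irr d) ×ˢ MS (N - k)
  have hA : ∑ x ∈ A, (x.2.1.natDegree : R) * w χ ψ x.1 = (N : R) * S χ ψ N := by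
    rw [S, Finset.mul_sum, Finset.sum_sigma]
    refine Finset.sum_congr rfl fun f hf => ?_
    rw [Finset.sum_sigma]
    conv_rhs => rw [hdeg f hf, Nat.cast_sum, Finset.sum_mul]
    refine Finset.sum_congr rfl fun P _ => ?_
    simp only [Finset.sum_const, Nat.card_Icc, nsmul_eq_mul, Nat.add_sub_cancel, Nat.cast_mul, mul_assoc]
  have hB : ∑ y ∈ B, (y.2.1.1 : R) * (w χ ψ y.2.1.2 ^ (y.1 / y.2.1.1) * w χ ψ y.2.2) =
      ∑ k ∈ Finset.Icc 1 N, T χ ψ k * S χ ψ (N - k) := by
    rw [Finset.sum_sigma]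
    refine Finset.sum_congr rfl fun k _ => ?_
    rw [Finset.sum_product, T, S, Finset.sum_sigma, Finset.sum_mul]
    refine Finset.sum_congr rfl fun d _ => ?_
    rw [Finset.sum_mul]
    refine Finset.sum_congr rfl fun P _ => ?_
    rw [Finset.mul_sum]
    exact Finset.sum_congr rfl fun h _ => (mul_assoc _ _ _).symm
  rw [← hA, ← hB]
  symm
  refine Finset.sum_bij (fun y _ => ⟨y.2.1.2 ^ (y.1 / y.2.1.1) * y.2.2, y.2.1.2, y.1 / y.2.1.1⟩) ?_ ?_ ?_ ?_
  · rintro ⟨k, ⟨d, P⟩, h⟩ hy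
    simp only [B, Finset.mem_sigma, Finset.mem_product, Finset.mem_Icc, Nat.mem_divisors, mem_Irr, mem_MS] at hy
    obtain ⟨⟨hk1, hkN⟩, ⟨⟨hdk, hk0⟩, hPm, hPd, hPi⟩, hhm, hhd⟩ := hy
    have hj : k / d * d = k := Nat.div_mul_cancel hdk
    have hj1 : 1 ≤ k / d := Nat.one_le_iff_ne_zero.2 fun e => by rw [e, zero_mul] at hj; omega
    have hcnt : k / d ≤ (normalizedFactors (P ^ (k / d) * h)).count P := by
      rw [normalizedFactors_mul (pow_ne_zero _ hPm.ne_zero) hhm.ne_zero, normalizedFactors_pow,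
        normalizedFactors_irreducible hPi, hPm.normalize_eq_self, Multiset.count_add, Multiset.count_nsmul,
        Multiset.count_singleton_self, mul_one]
      exact Nat.le_add_right _ _
    simp only [A, Finset.mem_sigma, Finset.mem_Icc, mem_MS, Multiset.mem_toFinset]
    refine ⟨⟨(hPm.pow _).mul hhm, ?_⟩, Multiset.count_pos.1 (by omega), hj1, hcnt⟩
    rw [(hPm.pow _).natDegree_mul hhm, natDegree_pow, hPd, hhd, hj]
    omega
  · rintro ⟨k, ⟨d, P⟩, h⟩ hy ⟨k', ⟨d', P'⟩, h'⟩ hy' e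
    simp only [B, Finset.mem_sigma, Finset.mem_product, Finset.mem_Icc, Nat.mem_divisors, mem_Irr, mem_MS] at hy hy'
    obtain ⟨-, ⟨⟨hdk, -⟩, hPm, hPd, -⟩, -⟩ := hy
    obtain ⟨-, ⟨⟨hdk', -⟩, -, hPd', -⟩, -⟩ := hy'
    simp only [Sigma.mk.injEq, heq_eq_eq] at e
    obtain ⟨e1, e2, e3⟩ := e
    subst e2
    subst hPd
    subst hPd'
    have hk : k = k' := by
      rw [← Nat.div_mul_cancel hdk, ← Nat.div_mul_cancel hdk', e3]
    subst hk
    rw [mul_left_cancel₀ (pow_ne_zero _ hPm.ne_zero) e1]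
  · rintro ⟨f, P, j⟩ hx
    simp only [A, Finset.mem_sigma, Finset.mem_Icc, mem_MS, Multiset.mem_toFinset] at hx
    obtain ⟨⟨hfm, hfd⟩, hP, hj1, hjc⟩ := hx
    obtain ⟨hPm, hPi⟩ := hfac hP
    obtain ⟨h, hh⟩ : P ^ j ∣ f := by
      rw [dvd_iff_normalizedFactors_le_normalizedFactors (pow_ne_zero _ hPm.ne_zero) hfm.ne_zero,
        normalizedFactors_pow, normalizedFactors_irreducible hPi, hPm.normalize_eq_self, Multiset.nsmul_singleton,
        ← Multiset.le_count_iff_replicate_le]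
      exact hjc
    have hhm : h.Monic := (hPm.pow j).of_mul_monic_left (hh ▸ hfm)
    have hd0 := hPi.natDegree_pos
    have hsum : j * P.natDegree + h.natDegree = N := by
      rw [← hfd, hh, (hPm.pow j).natDegree_mul hhm, natDegree_pow]
    have hpos : 0 < j * P.natDegree := Nat.mul_pos (by omega) hd0
    refine ⟨⟨j * P.natDegree, ⟨P.natDegree, P⟩, h⟩, ?_, ?_⟩
    · simp only [B, Finset.mem_sigma, Finset.mem_product, Finset.mem_Icc, Nat.mem_divisors, mem_Irr, mem_MS]
      exact ⟨⟨hpos, by omega⟩, ⟨⟨Dvd.intro_left j rfl, hpos.ne'⟩, hPm, trivial, hPi⟩, hhm, by omega⟩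
    · simp only [Nat.mul_div_cancel _ hd0, ← hh]
  · rintro ⟨k, ⟨d, P⟩, h⟩ hy
    simp only [B, Finset.mem_sigma, Finset.mem_product, Finset.mem_Icc, Nat.mem_divisors, mem_Irr, mem_MS] at hy
    obtain ⟨-, ⟨-, hPm, hPd, -⟩, hhm, -⟩ := hy
    show (d : R) * (w χ ψ P ^ (k / d) * w χ ψ h) = (P.natDegree : R) * w χ ψ (P ^ (k / d) * h)
    rw [w_mul χ ψ (hPm.pow _) hhm, w_pow χ ψ hPm, hPd]

theorem T_eq (hψ : ψ ≠ 1) : ∀ N : ℕ, T χ ψ (N + 1) = (-(∑ x, χ x * ψ x)) ^ N * ∑ x, χ x * ψ x := by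
  intro N
  induction N with
  | zero =>
    have h := recursion χ ψ 1
    simp only [Finset.Icc_self, Finset.sum_singleton, Nat.sub_self, S_zero, S_one, Nat.cast_one, one_mul, mul_one] at h
    rw [zero_add, pow_zero, one_mul, ← h]
  | succ N ih =>
    have h := recursion χ ψ (N + 2)
    rw [S_two_add χ ψ hψ, mul_zero, Finset.sum_Icc_succ_top (by omega : 1 ≤ N + 1 + 1),
      Finset.sum_Icc_succ_top (by omega : 1 ≤ N + 1), Finset.sum_eq_zero fun k hk => ?_, zero_add,
      show N + 1 + 1 - (N + 1 + 1) = 0 by omega, show N + 1 + 1 - (N + 1) = 1 by omega, S_zero, S_one, mul_one, ih] at h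
    · rw [pow_succ]
      linear_combination -h
    · obtain ⟨M, hM⟩ : ∃ M, N + 2 - k = M + 2 := ⟨N - k, by simp at hk; omega⟩
      rw [hM, S_two_add χ ψ hψ, mul_zero]

variable {F' : Type} [Field F'] [Fintype F'] [Algebra F F']

theorem minpoly_mem (x : F') : (minpoly F x).natDegree ∈ (Module.finrank F F').divisors ∧
    (minpoly F x) ∈ Irr (minpoly F x).natDegree :=
  ⟨Nat.mem_divisors.2 ⟨minpoly.degree_dvd (.of_finite F x), Module.finrank_pos.ne'⟩,
    mem_Irr.2 ⟨minpoly.monic (.of_finite F x), rfl, minpoly.irreducible (.of_finite F x)⟩⟩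

theorem w_minpoly (x : F') :
    χ (Algebra.norm F x) * ψ (Algebra.trace F F' x) =
      w χ ψ (minpoly F x) ^ (Module.finrank F F' / (minpoly F x).natDegree) := by
  open IntermediateField in
  have hx : IsIntegral F x := .of_finite F x
  have hm : Module.finrank F F' / (minpoly F x).natDegree = Module.finrank F⟮x⟯ F' := by
    rw [← adjoin.finrank hx, ← Module.finrank_mul_finrank F F⟮x⟯ F', Nat.mul_div_cancel_left _ Module.finrank_pos]
  rw [hm, w, mul_pow, ← map_pow, ← AddChar.map_nsmul_eq_pow, Algebra.norm_eq_norm_adjoin F x,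
    trace_eq_trace_adjoin F x, trace_adjoinSimpleGen hx, ← adjoin.powerBasis_gen hx,
    Algebra.PowerBasis.norm_gen_eq_coeff_zero_minpoly, adjoin.powerBasis_gen hx, IntermediateField.minpoly_gen,
    adjoin.powerBasis_dim]

theorem card_fibre (P : F[X]) (d : ℕ) (hd : d ∣ Module.finrank F F') (hP : P ∈ Irr d) [DecidableEq F[X]] :
    ((Finset.univ : Finset F').filter fun x => minpoly F x = P).card = d := by
  classical
  obtain ⟨hm, hdeg, hirr⟩ := mem_Irr.1 hP
  haveI : Fact (Irreducible P) := ⟨hirr⟩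
  obtain ⟨φ⟩ := FiniteField.nonempty_algHom_of_finrank_dvd (F := F) (K := AdjoinRoot P) (L := F') (by
    rw [(AdjoinRoot.powerBasis hirr.ne_zero).finrank, AdjoinRoot.powerBasis_dim, hdeg]; exact hd)
  have hroot : aeval (φ (AdjoinRoot.root P)) P = 0 := by
    rw [aeval_algHom_apply, AdjoinRoot.aeval_eq, AdjoinRoot.mk_self, map_zero]
  have hmin := minpoly.eq_of_irreducible_of_monic hirr hroot hm
  have hsplit : (P.map (algebraMap F F')).Splits := hmin ▸ Normal.splits inferInstance _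
  have hsep : P.Separable := PerfectField.separable_of_irreducible hirr
  rw [← hdeg, ← card_rootSet_eq_natDegree hsep hsplit, ← Set.toFinset_card]
  congr 1
  ext x
  simp only [Finset.mem_filter, Finset.mem_univ, true_and, Set.mem_toFinset, mem_rootSet, Ne, hirr.ne_zero,
    not_false_eq_true]
  exact ⟨fun e => e ▸ minpoly.aeval F x, fun e => (minpoly.eq_of_irreducible_of_monic hirr e hm).symm⟩

theorem sum_eq_T : ∑ x : F', χ (Algebra.norm F x) * ψ (Algebra.trace F F' x) = T χ ψ (Module.finrank F F') := by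
  classical
  set n := Module.finrank F F'
  rw [T]
  rw [← Finset.sum_fiberwise_of_maps_to (s := (Finset.univ : Finset F'))
    (g := fun x => (minpoly F x).natDegree) (fun x _ => (minpoly_mem x).1)]
  refine Finset.sum_congr rfl fun d hd => ?_
  rw [← Finset.sum_fiberwise_of_maps_to (g := fun x => minpoly F x)
    (t := Irr d) (fun x hx => (Finset.mem_filter.1 hx).2 ▸ (minpoly_mem x).2)]
  refine Finset.sum_congr rfl fun P hP => ?_
  rw [Finset.filter_filter, Finset.sum_congr rfl (g := fun _ => w χ ψ P ^ (n / d)) fun x hx => ?_, Finset.sum_const,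
    nsmul_eq_mul]
  · congr 2
    refine Eq.trans ?_ (card_fibre (F' := F') P d (Nat.dvd_of_mem_divisors hd) hP)
    congr 1
    ext x
    simp only [Finset.mem_filter, Finset.mem_univ, true_and]
    exact ⟨fun h => h.2, fun h => ⟨by rw [h, (mem_Irr.1 hP).2.1], h⟩⟩
  · obtain ⟨-, h1, h2⟩ := Finset.mem_filter.1 hx
    rw [w_minpoly, h2, (mem_Irr.1 hP).2.1]

theorem main (hψ : ψ ≠ 1) :
    -(∑ x : F', χ (Algebra.norm F x) * ψ (Algebra.trace F F' x)) =
      (-(∑ x : F, χ x * ψ x)) ^ Module.finrank F F' := by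
  obtain ⟨N, hN⟩ : ∃ N, Module.finrank F F' = N + 1 :=
    ⟨Module.finrank F F' - 1, by have := Module.finrank_pos (R := F) (M := F'); omega⟩
  rw [sum_eq_T, hN, T_eq χ ψ hψ, pow_succ, mul_neg]

end Groth.Agent.Gems6.HasseDavenport
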