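import Mathlib

/-!
Nonvanishing of the coefficients of the generating series of complete intersections.
-/

set_option autoImplicit false

open MvPowerSeries

namespace Groth.Agent.Gems6.Hodge

/-- An exponent. -/
noncomputable abbrev ex2 (p q : ℕ) : Fin 2 →₀ ℕ := Finsupp.single 0 p + Finsupp.single 1 q

theorem ex2_eta (e : Fin 2 →₀ ℕ) : ex2 (e 0) (e 1) = e := by
  ext i; fin_cases i <;> simp [ex2]

theorem ex2_inj {a b c d : ℕ} : ex2 a b = ex2 c d ↔ a = c ∧ b = d := by
  refine ⟨fun h => ⟨?_, ?_⟩, by rintro ⟨rfl, rfl⟩; rfl⟩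
  · simpa [ex2] using DFunLike.congr_fun h 0
  · simpa [ex2] using DFunLike.congr_fun h 1

/-- Nonnegative series. -/
def Nonneg (f : MvPowerSeries (Fin 2) ℤ) : Prop := ∀ e, 0 ≤ coeff e f

theorem nonneg_mul {f g : MvPowerSeries (Fin 2) ℤ} (hf : Nonneg f) (hg : Nonneg g) : Nonneg (f * g) := fun e => by
  classical
  rw [coeff_mul]
  exact Finset.sum_nonneg fun x _ => mul_nonneg (hf _) (hg _)

theorem coeff_mul_pos {f g : MvPowerSeries (Fin 2) ℤ} (hf : Nonneg f) (hg : Nonneg g) {e₁ e₂ : Fin 2 →₀ ℕ}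
    (h₁ : 0 < coeff e₁ f) (h₂ : 0 < coeff e₂ g) : 0 < coeff (e₁ + e₂) (f * g) := by
  classical
  rw [coeff_mul]
  exact Finset.sum_pos' (fun x _ => mul_nonneg (hf _) (hg _))
    ⟨(e₁, e₂), Finset.HasAntidiagonal.mem_antidiagonal.2 rfl, mul_pos h₁ h₂⟩

theorem exists_of_coeff_mul_ne {f g : MvPowerSeries (Fin 2) ℤ} {e : Fin 2 →₀ ℕ} (h : coeff e (f * g) ≠ 0) :
    ∃ e₁ e₂, e₁ + e₂ = e ∧ coeff e₁ f ≠ 0 ∧ coeff e₂ g ≠ 0 := by
  classical
  rw [coeff_mul] at h
  obtain ⟨x, hx, hne⟩ := Finset.exists_ne_zero_of_sum_ne_zero h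
  exact ⟨x.1, x.2, Finset.HasAntidiagonal.mem_antidiagonal.1 hx, left_ne_zero_of_mul hne, right_ne_zero_of_mul hne⟩

theorem coeff_monom (c : ℕ) (u v p q : ℕ) :
    coeff (ex2 p q) ((c : MvPowerSeries (Fin 2) ℤ) * X 0 ^ u * X 1 ^ v) = if p = u ∧ q = v then (c : ℤ) else 0 := by
  classical
  rw [X_pow_eq, X_pow_eq, ← map_natCast (C (σ := Fin 2) (R := ℤ)) c, mul_assoc, monomial_mul_monomial, coeff_C_mul,
    coeff_monomial, one_mul]
  simp only [ex2_inj]
  split_ifs <;> simp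

theorem coeff_grid (B : ℕ) (c : ℕ → ℕ → ℕ) (C : ℕ → ℕ → Prop) [∀ u v, Decidable (C u v)]
    (hC : ∀ u v, C u v → u < B ∧ v < B) (p q : ℕ) :
    coeff (ex2 p q) (∑ u ∈ Finset.range B, ∑ v ∈ Finset.range B,
      if C u v then (c u v : MvPowerSeries (Fin 2) ℤ) * X 0 ^ u * X 1 ^ v else 0) =
      if C p q then (c p q : ℤ) else 0 := by
  rw [map_sum]
  simp_rw [map_sum, apply_ite (coeff (ex2 p q)), coeff_monom, map_zero]
  split_ifs with h
  · rw [Finset.sum_eq_single p, Finset.sum_eq_single q]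
    · simp [h]
    · intro v _ hv; simp [hv.symm]
    · intro hn; exact absurd (Finset.mem_range.2 (hC _ _ h).2) hn
    · intro u _ hu; exact Finset.sum_eq_zero fun v _ => by simp [hu.symm]
    · intro hn; exact absurd (Finset.mem_range.2 (hC _ _ h).1) hn
  · refine Finset.sum_eq_zero fun u _ => Finset.sum_eq_zero fun v _ => ?_
    split_ifs with h1 h2
    · exact absurd (h2.1 ▸ h2.2 ▸ h1) h
    · rfl
    · rfl

/-- The series `P`. -/
noncomputable def Pser (b : ℕ) : MvPowerSeries (Fin 2) ℤ :=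
  ∑ u ∈ Finset.range (b + 1), ∑ v ∈ Finset.range (b + 1),
    if 1 ≤ u ∧ 1 ≤ v ∧ u + v ≤ b then (b.choose (u + v) : MvPowerSeries (Fin 2) ℤ) * X 0 ^ u * X 1 ^ v else 0

/-- The series `N`. -/
noncomputable def Nser (b : ℕ) : MvPowerSeries (Fin 2) ℤ :=
  ∑ u ∈ Finset.range b, ∑ v ∈ Finset.range b,
    if u + v + 1 ≤ b - 1 then ((b - 1).choose (u + v + 1) : MvPowerSeries (Fin 2) ℤ) * X 0 ^ u * X 1 ^ v else 0

theorem coeff_P (b p q : ℕ) : coeff (ex2 p q) (Pser b) =
    if 1 ≤ p ∧ 1 ≤ q ∧ p + q ≤ b then (b.choose (p + q) : ℤ) else 0 :=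
  coeff_grid (b + 1) (fun u v => b.choose (u + v)) (fun u v => 1 ≤ u ∧ 1 ≤ v ∧ u + v ≤ b) (fun u v h => by omega) p q

theorem coeff_N (b p q : ℕ) : coeff (ex2 p q) (Nser b) =
    if p + q + 1 ≤ b - 1 then ((b - 1).choose (p + q + 1) : ℤ) else 0 :=
  coeff_grid b (fun u v => (b - 1).choose (u + v + 1)) (fun u v => u + v + 1 ≤ b - 1) (fun u v h => by omega) p q

theorem nonneg_P (b : ℕ) : Nonneg (Pser b) := fun e => by
  rw [← ex2_eta e, coeff_P]; split_ifs <;> positivity

theorem P_pos {b p q : ℕ} (h : 1 ≤ p ∧ 1 ≤ q ∧ p + q ≤ b) : 0 < coeff (ex2 p q) (Pser b) := by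
  rw [coeff_P, if_pos h]; exact_mod_cast Nat.choose_pos h.2.2

variable {b : ℕ} {H : MvPowerSeries (Fin 2) ℤ}

theorem H_nonneg (hH : (1 - Pser b) * H = Nser b) : Nonneg H := fun e => by
  classical
  induction hn : e 0 using Nat.strong_induction_on generalizing e with
  | _ n ih =>
    rw [show H = Nser b + Pser b * H by rw [← hH]; ring, map_add]
    refine add_nonneg (by rw [← ex2_eta e, coeff_N]; split_ifs <;> positivity) ?_
    rw [coeff_mul]
    refine Finset.sum_nonneg fun x hx => ?_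
    rcases eq_or_ne (coeff x.1 (Pser b)) 0 with h | h
    · rw [h, zero_mul]
    rw [← ex2_eta x.1, coeff_P] at h
    by_cases hc : 1 ≤ x.1 0 ∧ 1 ≤ x.1 1 ∧ x.1 0 + x.1 1 ≤ b
    · have he := DFunLike.congr_fun (Finset.HasAntidiagonal.mem_antidiagonal.1 hx) 0
      simp only [Finsupp.add_apply] at he
      exact mul_nonneg (nonneg_P b _) (ih _ (by omega) x.2 rfl)
    · rw [if_neg hc] at h; exact absurd rfl h

theorem H_bound (hH : (1 - Pser b) * H = Nser b) : ∀ p q, coeff (ex2 p q) H ≠ 0 → p + q + 2 ≤ (p + 1) * b := by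
  intro p
  induction p using Nat.strong_induction_on with
  | _ p ih =>
    intro q hne
    rw [show H = Nser b + Pser b * H by rw [← hH]; ring, map_add, coeff_N] at hne
    have hb : b ≤ (p + 1) * b := Nat.le_mul_of_pos_left b (Nat.succ_pos p)
    by_cases hc : p + q + 1 ≤ b - 1
    · omega
    rw [if_neg hc, zero_add] at hne
    obtain ⟨e₁, e₂, he, h1, h2⟩ := exists_of_coeff_mul_ne hne
    rw [← ex2_eta e₁, coeff_P] at h1
    by_cases hp : 1 ≤ e₁ 0 ∧ 1 ≤ e₁ 1 ∧ e₁ 0 + e₁ 1 ≤ b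
    · have e0 : e₁ 0 + e₂ 0 = p := by simpa [ex2] using DFunLike.congr_fun he 0
      have e1 : e₁ 1 + e₂ 1 = q := by simpa [ex2] using DFunLike.congr_fun he 1
      rw [← ex2_eta e₂] at h2
      have := ih (e₂ 0) (by omega) _ h2
      have hm : (e₂ 0 + 2) * b ≤ (p + 1) * b := Nat.mul_le_mul_right b (by omega)
      rw [Nat.add_mul] at hm this
      omega
    · rw [if_neg hp] at h1; exact absurd rfl h1

theorem H_pos (hH : (1 - Pser b) * H = Nser b) (hb : 2 ≤ b) :
    ∀ p q, p ≤ q → p + q + 2 ≤ (p + 1) * b → 0 < coeff (ex2 p q) H := by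
  intro p
  induction p using Nat.strong_induction_on with
  | _ p ih =>
    intro q hpq hle
    have hrec : coeff (ex2 p q) H = coeff (ex2 p q) (Nser b) + coeff (ex2 p q) (Pser b * H) := by
      rw [← map_add]; congr 1; rw [← hH]; ring
    rw [hrec]
    by_cases hc : p + q + 1 ≤ b - 1
    · refine add_pos_of_pos_of_nonneg ?_ (nonneg_mul (nonneg_P b) (H_nonneg hH) _)
      rw [coeff_N, if_pos hc]; exact_mod_cast Nat.choose_pos hc
    · refine add_pos_of_nonneg_of_pos (by rw [coeff_N, if_neg hc]) ?_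
      obtain ⟨j, rfl⟩ : ∃ j, p = j + 1 := ⟨p - 1, by
        rcases p with - | j
        · simp at hle; omega
        · omega⟩
      rw [Nat.add_mul, one_mul] at hle
      set v := min (b - 1) (q - j) with hv
      have e : ex2 (j + 1) q = ex2 1 v + ex2 j (q - v) := by
        ext i; fin_cases i <;> simp [ex2] <;> omega
      rw [e]
      refine coeff_mul_pos (nonneg_P b) (H_nonneg hH) (P_pos ⟨le_rfl, by omega, by omega⟩)
        (ih j (by omega) _ (by omega) ?_)
      rcases Nat.lt_or_ge (q - j) b with h | h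
      · have : (j + 1) * 2 ≤ (j + 1) * b := Nat.mul_le_mul_left _ hb
        omega
      · omega

section Prod

variable {d : ℕ} {a : Fin d → ℕ} {Hs : Fin d → MvPowerSeries (Fin 2) ℤ}

theorem prod_nonneg (hH : ∀ i, (1 - Pser (a i)) * Hs i = Nser (a i)) (P : Finset (Fin d)) :
    Nonneg (∏ i ∈ P, Hs i) := by
  induction P using Finset.induction_on with
  | empty =>
    classical
    intro e
    rw [Finset.prod_empty, coeff_one]
    split_ifs <;> norm_num
  | insert i P hi ih => rw [Finset.prod_insert hi]; exact nonneg_mul (H_nonneg (hH i)) ih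

theorem prod_bound (hH : ∀ i, (1 - Pser (a i)) * Hs i = Nser (a i)) (M : ℕ) (hM : ∀ i, a i ≤ M)
    (P : Finset (Fin d)) : ∀ p q, coeff (ex2 p q) (∏ i ∈ P, Hs i) ≠ 0 → p + q + 2 * P.card ≤ p * M + ∑ i ∈ P, a i := by
  induction P using Finset.induction_on with
  | empty =>
    classical
    intro p q h
    rw [Finset.prod_empty, coeff_one] at h
    by_cases he : ex2 p q = 0
    · have h0 : p = 0 := by simpa [ex2] using DFunLike.congr_fun he 0
      have h1 : q = 0 := by simpa [ex2] using DFunLike.congr_fun he 1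
      simp [h0, h1]
    · rw [if_neg he] at h; exact absurd rfl h
  | insert i P hi ih =>
    intro p q h
    rw [Finset.prod_insert hi] at h
    obtain ⟨e₁, e₂, he, h1, h2⟩ := exists_of_coeff_mul_ne h
    have e0 : e₁ 0 + e₂ 0 = p := by simpa [ex2] using DFunLike.congr_fun he 0
    have e1 : e₁ 1 + e₂ 1 = q := by simpa [ex2] using DFunLike.congr_fun he 1
    rw [← ex2_eta e₁] at h1
    rw [← ex2_eta e₂] at h2
    have b1 := H_bound (hH i) _ _ h1
    have b2 := ih _ _ h2
    have hm : e₁ 0 * a i ≤ e₁ 0 * M := Nat.mul_le_mul_left _ (hM i)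
    rw [Nat.add_mul, one_mul] at b1
    rw [Finset.sum_insert hi, Finset.card_insert_of_notMem hi, ← e0, Nat.add_mul]
    omega

theorem prod_pos (hH : ∀ i, (1 - Pser (a i)) * Hs i = Nser (a i)) (P : Finset (Fin d)) (h2 : ∀ i ∈ P, 2 ≤ a i) :
    ∀ v, v + 2 * P.card ≤ ∑ i ∈ P, a i → 0 < coeff (ex2 0 v) (∏ i ∈ P, Hs i) := by
  induction P using Finset.induction_on with
  | empty =>
    classical
    intro v hv
    simp at hv
    subst hv
    rw [Finset.prod_empty, coeff_one, if_pos (by simp [ex2])]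
    norm_num
  | insert i P hi ih =>
    intro v hv
    rw [Finset.sum_insert hi, Finset.card_insert_of_notMem hi] at hv
    rw [Finset.prod_insert hi]
    have hai := h2 i (Finset.mem_insert_self _ _)
    have hP2 : 2 * P.card ≤ ∑ j ∈ P, a j := by
      rw [mul_comm, ← smul_eq_mul, ← Finset.sum_const]
      exact Finset.sum_le_sum fun j hj => h2 j (Finset.mem_insert_of_mem hj)
    set w := min v (a i - 2)
    have e : ex2 0 v = ex2 0 w + ex2 0 (v - w) := by
      ext j; fin_cases j <;> simp [ex2]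
      omega
    rw [e]
    exact coeff_mul_pos (H_nonneg (hH i)) (prod_nonneg hH P) (H_pos (hH i) hai 0 w (Nat.zero_le _) (by omega))
      (ih (fun j hj => h2 j (Finset.mem_insert_of_mem hj)) _ (by omega))

theorem coeff_binom (m p q : ℕ) :
    coeff (ex2 p q) (((1 + X 0) * (1 + X 1)) ^ m : MvPowerSeries (Fin 2) ℤ) =
      if p ≤ m ∧ q ≤ m then ((m.choose p * m.choose q : ℕ) : ℤ) else 0 := by
  have e : (((1 + X 0) * (1 + X 1)) ^ m : MvPowerSeries (Fin 2) ℤ) =
      ∑ u ∈ Finset.range (m + 1), ∑ v ∈ Finset.range (m + 1),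
        if u ≤ m ∧ v ≤ m then ((m.choose u * m.choose v : ℕ) : MvPowerSeries (Fin 2) ℤ) * X 0 ^ u * X 1 ^ v else 0 := by
    rw [mul_pow, add_comm 1 (X 0), add_comm 1 (X 1), add_pow, add_pow, Finset.sum_mul_sum]
    refine Finset.sum_congr rfl fun u hu => Finset.sum_congr rfl fun v hv => ?_
    rw [if_pos ⟨Nat.lt_succ_iff.1 (Finset.mem_range.1 hu), Nat.lt_succ_iff.1 (Finset.mem_range.1 hv)⟩, Nat.cast_mul]
    ring
  rw [e]
  exact coeff_grid (m + 1) (fun u v => m.choose u * m.choose v) (fun u v => u ≤ m ∧ v ≤ m) (fun u v h => by omega) p q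

theorem nonneg_binom (m : ℕ) : Nonneg (((1 + X 0) * (1 + X 1)) ^ m : MvPowerSeries (Fin 2) ℤ) := fun e => by
  rw [← ex2_eta e, coeff_binom]; split_ifs <;> positivity

theorem main (ha : ∀ i, 1 ≤ a i) (hH : ∀ i, (1 - Pser (a i)) * Hs i = Nser (a i)) (p q : ℕ) (hpq : p ≤ q) :
    coeff (ex2 p q) (∑ P ∈ (Finset.univ : Finset (Fin d)).powerset with P.Nonempty,
      ((1 + X 0) * (1 + X 1)) ^ (P.card - 1) * ∏ i ∈ P, Hs i) ≠ 0 ↔
      p + q + d < p * Finset.univ.sup a + ∑ i, a i := by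
  classical
  set M := Finset.univ.sup a with hMdef
  have hM : ∀ i, a i ≤ M := fun i => Finset.le_sup (Finset.mem_univ i)
  have hsplit : ∀ P : Finset (Fin d), ∑ i ∈ P, a i + (d - P.card) ≤ ∑ i, a i := fun P => by
    rw [← Finset.sum_add_sum_compl P a]
    have : Pᶜ.card ≤ ∑ i ∈ Pᶜ, a i := by
      rw [Finset.card_eq_sum_ones]; exact Finset.sum_le_sum fun i _ => ha i
    rw [Finset.card_compl, Fintype.card_fin] at this
    omega
  rw [map_sum]
  constructor
  · intro h
    obtain ⟨P, hP, hne⟩ := Finset.exists_ne_zero_of_sum_ne_zero h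
    have hPne : P.Nonempty := (Finset.mem_filter.1 hP).2
    obtain ⟨e₁, e₂, he, h1, h2⟩ := exists_of_coeff_mul_ne hne
    have e0 : e₁ 0 + e₂ 0 = p := by simpa [ex2] using DFunLike.congr_fun he 0
    have e1 : e₁ 1 + e₂ 1 = q := by simpa [ex2] using DFunLike.congr_fun he 1
    rw [← ex2_eta e₁, coeff_binom] at h1
    by_cases hc : e₁ 0 ≤ P.card - 1 ∧ e₁ 1 ≤ P.card - 1
    · rw [← ex2_eta e₂] at h2
      have hb := prod_bound hH M hM P _ _ h2
      have := hsplit P
      have := hPne.card_pos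
      have : P.card ≤ d := by simpa using P.card_le_univ
      have hM1 : 1 ≤ M := (ha hPne.choose).trans (hM _)
      have hx : e₁ 0 ≤ e₁ 0 * M := Nat.le_mul_of_pos_right _ hM1
      rw [← e0, Nat.add_mul]
      omega
    · rw [if_neg hc] at h1; exact absurd rfl h1
  · intro h
    have hd : (Finset.univ : Finset (Fin d)).Nonempty := by
      rw [Finset.univ_nonempty_iff, ← Fin.pos_iff_nonempty]
      rcases d with - | d
      · simp [hMdef] at h
      · omega
    obtain ⟨i₀, -, hi₀⟩ := Finset.exists_mem_eq_sup _ hd a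
    have hM2 : 2 ≤ M := by
      by_contra hlt
      have hs : ∑ i, a i ≤ d := by
        have := Finset.sum_le_card_nsmul Finset.univ a 1 fun i _ => (hM i).trans (by omega)
        simpa using this
      have : p * M ≤ p * 1 := Nat.mul_le_mul_left _ (by omega)
      omega
    set P := Finset.univ.filter fun i : Fin d => 2 ≤ a i with hPdef
    have hi₀P : i₀ ∈ P := by simp [hPdef]; omega
    have hout : ∑ i, a i = ∑ i ∈ P, a i + (d - P.card) := by
      rw [← Finset.sum_add_sum_compl P a]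
      congr 1
      rw [Finset.sum_congr rfl (g := fun _ => 1) fun i hi => by
        simp [hPdef] at hi
        have := ha i
        omega, ← Finset.card_eq_sum_ones, Finset.card_compl, Fintype.card_fin]
    have hsum : ∑ i ∈ P, a i = M + ∑ i ∈ P.erase i₀, a i := by
      rw [← Finset.add_sum_erase _ _ hi₀P, hMdef, hi₀]
    have hcard : (P.erase i₀).card + 1 = P.card := Finset.card_erase_add_one hi₀P
    have hd' : P.card ≤ d := by simpa using P.card_le_univ
    set r := P.erase i₀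
    have hr2 : ∀ i ∈ r, 2 ≤ a i := fun i hi => (Finset.mem_filter.1 (Finset.mem_of_mem_erase hi)).2
    have hrs : 2 * r.card ≤ ∑ i ∈ r, a i := by
      rw [mul_comm, ← smul_eq_mul, ← Finset.sum_const]; exact Finset.sum_le_sum hr2
    set q₀ := min q ((p + 1) * M - 2 - p) with hq₀
    set z := min (q - q₀) r.card with hz
    have h2p : (p + 1) * 2 ≤ (p + 1) * M := Nat.mul_le_mul_left _ hM2
    have hpM : (p + 1) * M = p * M + M := by rw [Nat.add_mul, one_mul]
    have hterm : 0 < coeff (ex2 p q) (((1 + X 0) * (1 + X 1)) ^ (P.card - 1) * ∏ i ∈ P, Hs i) := by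
      have e : ex2 p q = ex2 0 z + (ex2 p q₀ + ex2 0 (q - q₀ - z)) := by
        ext j; fin_cases j <;> simp [ex2]
        omega
      rw [e]
      refine coeff_mul_pos (nonneg_binom _) (prod_nonneg hH P) ?_ ?_
      · rw [coeff_binom, if_pos ⟨Nat.zero_le _, by omega⟩]
        exact_mod_cast Nat.mul_pos (Nat.choose_pos (Nat.zero_le _)) (Nat.choose_pos (by omega))
      · rw [← Finset.mul_prod_erase _ _ hi₀P]
        refine coeff_mul_pos (H_nonneg (hH i₀)) (prod_nonneg hH r) ?_ (prod_pos hH r hr2 _ (by omega))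
        exact H_pos (hH i₀) (hi₀ ▸ hM2) p q₀ (by omega) (by rw [← hi₀, ← hMdef]; omega)
    refine ne_of_gt (Finset.sum_pos' (fun Q _ => nonneg_mul (nonneg_binom _) (prod_nonneg hH Q) _)
      ⟨P, Finset.mem_filter.2 ⟨Finset.mem_powerset.2 (Finset.subset_univ _), ⟨i₀, hi₀P⟩⟩, hterm⟩)

theorem level (hd : 1 ≤ d) (ha : ∀ i, 1 ≤ a i) (i₀ : Fin d) (hi₀ : ∀ i, a i ≤ a i₀)
    (hH : ∀ i, (1 - Pser (a i)) * Hs i = Nser (a i)) (n l : ℕ) (hl : l < n) (hpar : l % 2 = n % 2) :
    (∀ p q : ℕ, p + q = n → p ≤ q → l < q - p →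
      coeff (ex2 p q) (∑ P ∈ (Finset.univ : Finset (Fin d)).powerset with P.Nonempty,
        ((1 + X 0) * (1 + X 1)) ^ (P.card - 1) * ∏ i ∈ P, Hs i) = 0) ↔
      2 * (∑ i ∈ Finset.univ.erase i₀, ((a i : ℤ) - 1)) + ((a i₀ : ℤ) - 2) * ((n : ℤ) - l) ≤ 2 * ((l : ℤ) + 1) := by
  have hsup : Finset.univ.sup a = a i₀ :=
    le_antisymm (Finset.sup_le fun i _ => hi₀ i) (Finset.le_sup (Finset.mem_univ _))
  obtain ⟨j, hj⟩ : ∃ j, n = l + 2 * (j + 1) := ⟨(n - l) / 2 - 1, by omega⟩
  have hs : (∑ i ∈ Finset.univ.erase i₀, ((a i : ℤ) - 1)) = ((∑ i, a i : ℕ) : ℤ) - a i₀ - ((d : ℤ) - 1) := by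
    rw [Finset.sum_sub_distrib, Finset.sum_erase_eq_sub (Finset.mem_univ i₀), Nat.cast_sum, Finset.sum_const,
      Finset.card_erase_of_mem (Finset.mem_univ i₀), Finset.card_univ, Fintype.card_fin, nsmul_eq_mul, mul_one,
      Nat.cast_sub hd, Nat.cast_one]
  rw [hs]
  have hn : ((n : ℤ) - l) = 2 * ((j : ℤ) + 1) := by rw [hj]; push_cast; ring
  rw [hn]
  constructor
  · intro h
    have h0 := h j (n - j) (by omega) (by omega) (by omega)
    have h1 := mt (main ha hH j (n - j) (by omega)).2 (not_not.2 h0)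
    rw [hsup, show j + (n - j) = n by omega, not_lt] at h1
    have h2 : ((j * a i₀ + ∑ i, a i : ℕ) : ℤ) ≤ ((n + d : ℕ) : ℤ) := by exact_mod_cast h1
    rw [hj] at h2
    push_cast at h2 ⊢
    nlinarith
  · intro h p q hpq hle hlt
    by_contra hne
    have h1 := (main ha hH p q hle).1 hne
    rw [hsup, hpq, hj] at h1
    have h2 : p * a i₀ ≤ j * a i₀ := Nat.mul_le_mul_right _ (by omega)
    have h3 : ((l + 2 * (j + 1) + d : ℕ) : ℤ) < ((j * a i₀ + ∑ i, a i : ℕ) : ℤ) := by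
      exact_mod_cast lt_of_lt_of_le h1 (Nat.add_le_add_right h2 _)
    push_cast at h3 h
    nlinarith

end Prod

end Groth.Agent.Gems6.Hodge
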