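import Mathlib

/-!
Substitution of the generic line through the origin.
-/

set_option autoImplicit false
universe u

open Polynomial

namespace Groth.Agent.Gems6.SubstLine

variable {k : Type u} [Field k] {σ : Type}

/-- Substitution `X ↦ X T`. -/
noncomputable def sub : MvPolynomial σ k →+* (MvPolynomial σ k)[X] :=
  MvPolynomial.eval₂Hom (Polynomial.C.comp MvPolynomial.C) (fun j => Polynomial.C (MvPolynomial.X j) * Polynomial.X)

theorem eval_one_sub (F : MvPolynomial σ k) : (sub F).eval 1 = F := by
  have h : (Polynomial.evalRingHom (1 : MvPolynomial σ k)).comp sub = RingHom.id _ :=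
    MvPolynomial.ringHom_ext (fun r => by simp [sub]) (fun j => by simp [sub])
  exact RingHom.congr_fun h F

/-- The weight substitution. -/
noncomputable def theta : (MvPolynomial σ k)[X] →+* LaurentPolynomial ((MvPolynomial σ k)[X]) :=
  Polynomial.eval₂RingHom
    (MvPolynomial.eval₂Hom (LaurentPolynomial.C.comp (Polynomial.C.comp MvPolynomial.C))
      (fun j => LaurentPolynomial.C (Polynomial.C (MvPolynomial.X j)) * LaurentPolynomial.T 1))
    (LaurentPolynomial.C Polynomial.X * LaurentPolynomial.T (-1))

theorem theta_sub (F : MvPolynomial σ k) : theta (sub F) = LaurentPolynomial.C (sub F) := by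
  have h : (theta (σ := σ) (k := k)).comp sub = LaurentPolynomial.C.comp sub := by
    refine MvPolynomial.ringHom_ext (fun r => by simp [sub, theta]) (fun j => ?_)
    simp [sub, theta]
    have hT : (LaurentPolynomial.T 1 : LaurentPolynomial ((MvPolynomial σ k)[X])) * LaurentPolynomial.T (-1) = 1 := by
      rw [← LaurentPolynomial.T_add, add_neg_cancel, LaurentPolynomial.T_zero]
    linear_combination (LaurentPolynomial.C (Polynomial.C (MvPolynomial.X j)) * LaurentPolynomial.C Polynomial.X :
      LaurentPolynomial ((MvPolynomial σ k)[X])) * hT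
  exact RingHom.congr_fun h F

theorem natTrailingDegree_eq_of_mul {S : Type u} [CommRing S] [IsDomain S] {p q : S[X]} {N : ℕ} {g : S}
    (hg : g ≠ 0) (h : p * q = C g * X ^ N) : p = C p.leadingCoeff * X ^ p.natDegree := by
  have h0 : p * q ≠ 0 := by
    rw [h]; exact mul_ne_zero (C_ne_zero.2 hg) (pow_ne_zero _ X_ne_zero)
  obtain ⟨hp, hq⟩ := mul_ne_zero_iff.1 h0
  have h1 := natDegree_mul hp hq
  have h2 := natTrailingDegree_mul hp hq
  rw [h, C_mul_X_pow_eq_monomial, natDegree_monomial_eq _ hg] at h1
  rw [h, C_mul_X_pow_eq_monomial, natTrailingDegree_monomial hg] at h2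
  have h3 := natTrailingDegree_le_natDegree p
  have h4 := natTrailingDegree_le_natDegree q
  refine Polynomial.ext fun i => ?_
  rw [C_mul_X_pow_eq_monomial, coeff_monomial]
  split_ifs with hi
  · rw [← hi]; rfl
  · rcases lt_or_gt_of_ne hi with hlt | hgt
    · exact coeff_eq_zero_of_natDegree_lt hlt
    · exact coeff_eq_zero_of_lt_natTrailingDegree (by omega)

theorem laurent_monomial_of_mul {S : Type u} [CommRing S] [IsDomain S] {f h : LaurentPolynomial S} {g : S}
    (hg : g ≠ 0) (e : f * h = LaurentPolynomial.C g) :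
    ∃ (a : S) (c : ℤ), f = LaurentPolynomial.C a * LaurentPolynomial.T c := by
  obtain ⟨n, p, hp⟩ := f.exists_T_pow
  obtain ⟨n', q, hq⟩ := h.exists_T_pow
  have hpq : p * q = C g * X ^ (n + n') := by
    apply Polynomial.toLaurent_injective
    rw [map_mul, hp, hq, map_mul, Polynomial.toLaurent_C, Polynomial.toLaurent_X_pow, mul_mul_mul_comm, e,
      ← LaurentPolynomial.T_add, Nat.cast_add]
  refine ⟨p.leadingCoeff, (p.natDegree : ℤ) + -(n : ℤ), ?_⟩
  have hf : f = p.toLaurent * LaurentPolynomial.T (-(n : ℤ)) := by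
    rw [hp, mul_assoc, ← LaurentPolynomial.T_add, add_neg_cancel, LaurentPolynomial.T_zero, mul_one]
  conv_lhs => rw [hf, natTrailingDegree_eq_of_mul hg hpq, map_mul, Polynomial.toLaurent_C, Polynomial.toLaurent_X_pow,
    mul_assoc, ← LaurentPolynomial.T_add]

/-- The constant term. -/
noncomputable def ct : (MvPolynomial σ k)[X] →+* k :=
  (MvPolynomial.eval fun _ => (0 : k)).comp (Polynomial.evalRingHom (0 : MvPolynomial σ k))

theorem eq_sub_of_mul {F : MvPolynomial σ k} (hF0 : MvPolynomial.eval (fun _ => (0 : k)) F ≠ 0)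
    {A B : (MvPolynomial σ k)[X]} (h : sub F = A * B) : A = sub (A.eval 1) := by
  have hsub : ct (sub F) = MvPolynomial.eval (fun _ => (0 : k)) F := by
    have h : (ct (σ := σ) (k := k)).comp sub = MvPolynomial.eval (fun _ => (0 : k)) :=
      MvPolynomial.ringHom_ext (fun r => by simp [ct, sub]) (fun j => by simp [ct, sub])
    exact RingHom.congr_fun h F
  have hG : sub F ≠ 0 := fun e => hF0 (by rw [← hsub, e, map_zero])
  have hA0 : ct A ≠ 0 := fun e => hF0 (by rw [← hsub, h, map_mul, e, zero_mul])
  obtain ⟨a, c, hac⟩ := laurent_monomial_of_mul hG (show theta A * theta B = LaurentPolynomial.C (sub F) by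
    rw [← map_mul, ← h, theta_sub])
  let one1 : LaurentPolynomial ((MvPolynomial σ k)[X]) →+* (MvPolynomial σ k)[X] :=
    LaurentPolynomial.eval₂ (RingHom.id _) 1
  have hone : one1.comp theta = RingHom.id _ := by
    refine Polynomial.ringHom_ext' (MvPolynomial.ringHom_ext (fun r => ?_) (fun j => ?_)) ?_ <;>
      simp [one1, theta]
  have ha : a = A := by
    have := congrArg one1 hac
    rw [show one1 (theta A) = A from RingHom.congr_fun hone A] at this
    simpa [one1] using this.symm
  subst ha
  have hc : c = 0 := by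
    let red : LaurentPolynomial ((MvPolynomial σ k)[X]) →+* LaurentPolynomial k :=
      AddMonoidAlgebra.mapRingHom ℤ ct
    have hC : ∀ x, red (LaurentPolynomial.C x) = LaurentPolynomial.C (ct x) := fun x =>
      AddMonoidAlgebra.mapRingHom_single ct 0 x
    have hT : ∀ d, red (LaurentPolynomial.T d) = LaurentPolynomial.T d := fun d =>
      (AddMonoidAlgebra.mapRingHom_single ct d 1).trans (by rw [map_one]; rfl)
    have hred : red.comp theta = LaurentPolynomial.C.comp ct := by
      refine Polynomial.ringHom_ext' (MvPolynomial.ringHom_ext (fun r => ?_) (fun j => ?_)) ?_ <;>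
        simp [theta, hC, hT, ct]
    have := congrArg red hac
    rw [show red (theta a) = LaurentPolynomial.C (ct a) from RingHom.congr_fun hred a] at this
    have e2 : red (LaurentPolynomial.C a * LaurentPolynomial.T c) = LaurentPolynomial.C (ct a) * LaurentPolynomial.T c := by
      rw [map_mul, hC, hT]
    rw [e2, ← LaurentPolynomial.single_eq_C_mul_T, ← LaurentPolynomial.single_eq_C] at this
    exact ((AddMonoidAlgebra.single_left_inj hA0).1 this).symm
  subst hc
  let Q := FractionRing ((MvPolynomial σ k)[X])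
  have hX : IsUnit (algebraMap ((MvPolynomial σ k)[X]) Q X) :=
    IsUnit.mk0 _ ((map_ne_zero_iff _ (IsFractionRing.injective _ Q)).2 X_ne_zero)
  let psi : LaurentPolynomial ((MvPolynomial σ k)[X]) →+* Q :=
    LaurentPolynomial.eval₂ (algebraMap _ Q) hX.unit
  have hpsi : psi.comp theta = (algebraMap _ Q).comp (sub.comp (Polynomial.evalRingHom 1)) := by
    refine Polynomial.ringHom_ext' (MvPolynomial.ringHom_ext (fun r => ?_) (fun j => ?_)) ?_ <;>
      simp [psi, theta, sub]
  apply IsFractionRing.injective ((MvPolynomial σ k)[X]) Q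
  have := congrArg psi hac
  rw [show psi (theta a) = algebraMap _ Q (sub (a.eval 1)) from RingHom.congr_fun hpsi a] at this
  rw [this]
  simp [psi]

theorem main (F : MvPolynomial σ k) (hF : Irreducible F) (hF0 : MvPolynomial.eval (fun _ => (0 : k)) F ≠ 0) :
    Irreducible ((sub F).map (algebraMap (MvPolynomial σ k) (FractionRing (MvPolynomial σ k)))) := by
  have hprim : (sub F).IsPrimitive := fun r hr => by
    have h0 : r ∣ (sub F).coeff 0 := (C_dvd_iff_dvd_coeff r (sub F)).1 hr 0
    have e : (Polynomial.evalRingHom (0 : MvPolynomial σ k)).comp sub =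
        MvPolynomial.C.comp (MvPolynomial.eval (fun _ => (0 : k))) :=
      MvPolynomial.ringHom_ext (fun r => by simp [sub]) (fun j => by simp [sub])
    have e' : (sub F).coeff 0 = MvPolynomial.C (MvPolynomial.eval (fun _ => (0 : k)) F) := by
      rw [coeff_zero_eq_eval_zero]; exact RingHom.congr_fun e F
    exact isUnit_of_dvd_unit (e' ▸ h0) ((IsUnit.mk0 _ hF0).map MvPolynomial.C)
  refine (hprim.irreducible_iff_irreducible_map_fraction_map).1 ⟨fun hu => ?_, fun A B h => ?_⟩
  · exact hF.not_isUnit (eval_one_sub F ▸ hu.map (Polynomial.evalRingHom (1 : MvPolynomial σ k)))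
  · have h1 : F = A.eval 1 * B.eval 1 := by rw [← eval_mul, ← h, eval_one_sub]
    rcases hF.isUnit_or_isUnit h1 with hu | hu
    · left
      rw [eq_sub_of_mul hF0 h]
      exact hu.map sub
    · right
      rw [eq_sub_of_mul hF0 (h.trans (mul_comm A B))]
      exact hu.map sub

end Groth.Agent.Gems6.SubstLine
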