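import Mathlib

/-!
The trace of differential forms along a purely inseparable extension of degree `p`.
-/

set_option autoImplicit false
set_option linter.unusedSectionVars false
universe u

open Polynomial

namespace Groth.Agent.Gems6.Trace

variable (p : ℕ) [hp : Fact p.Prime] {R : Type u} [CommRing R] [CharP R p]

theorem cast_choose_pred {A : Type u} [CommRing A] [Algebra R A] : ∀ i : ℕ, i < p →
    ((((p - 1).choose i : ℕ)) : A) = (-1) ^ i
  | 0, _ => by simp
  | i + 1, h => by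
    have h0 : ((p.choose (i + 1) : ℕ) : A) = 0 := by
      obtain ⟨c, hc⟩ := hp.out.dvd_choose_self (Nat.succ_ne_zero i) h
      rw [hc, Nat.cast_mul, ← map_natCast (algebraMap R A) p, CharP.cast_eq_zero R p, map_zero, zero_mul]
    have e : p.choose (i + 1) = (p - 1).choose i + (p - 1).choose (i + 1) := by
      conv_lhs => rw [show p = p - 1 + 1 by omega]
      exact Nat.choose_succ_succ _ _
    rw [e, Nat.cast_add, cast_choose_pred i (by omega)] at h0
    rw [pow_succ]
    linear_combination h0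

variable (b : R)


theorem root_pow : (AdjoinRoot.root (X ^ p - C b : R[X])) ^ p = algebraMap R (AdjoinRoot (X ^ p - C b : R[X])) b := by
  have h : aeval (AdjoinRoot.root (X ^ p - C b : R[X])) (X ^ p - C b : R[X]) = 0 := by rw [AdjoinRoot.aeval_eq, AdjoinRoot.mk_self]
  rw [map_sub, map_pow, aeval_X, aeval_C, sub_eq_zero] at h
  exact h

theorem algebraMap_inj : Function.Injective (algebraMap R (AdjoinRoot (X ^ p - C b : R[X]))) := by
  haveI : Nontrivial R := CharP.nontrivial_of_char_ne_one (R := R) hp.out.ne_one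
  refine (injective_iff_map_eq_zero _).2 fun c hc => ?_
  rw [AdjoinRoot.algebraMap_eq, ← AdjoinRoot.mk_C, AdjoinRoot.mk_eq_zero] at hc
  by_contra h
  have hd : (X ^ p - C b : R[X]).degree = p := degree_X_pow_sub_C hp.out.pos b
  exact (monic_X_pow_sub_C b hp.out.ne_zero).not_dvd_of_degree_lt (by simpa using h)
    (by rw [hd]; exact lt_of_le_of_lt degree_C_le (by exact_mod_cast hp.out.pos)) hc

variable (T : Ω[(AdjoinRoot (X ^ p - C b : R[X]))⁄R] →ₗ[R] Ω[R⁄ℤ])
  (h0 : ∀ i : ℕ, i + 2 ≤ p → T ((AdjoinRoot.root (X ^ p - C b : R[X])) ^ i • (KaehlerDifferential.D R (AdjoinRoot (X ^ p - C b : R[X]))) (AdjoinRoot.root (X ^ p - C b : R[X]))) = 0)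
  (h1 : T ((AdjoinRoot.root (X ^ p - C b : R[X])) ^ (p - 1) • (KaehlerDifferential.D R (AdjoinRoot (X ^ p - C b : R[X]))) (AdjoinRoot.root (X ^ p - C b : R[X]))) = KaehlerDifferential.D ℤ R b)

theorem succ_eq_zero (n : ℕ) : ((n + 1 : ℕ) : R) = 0 ↔ n % p = p - 1 := by
  have hlt : n % p < p := Nat.mod_lt _ hp.out.pos
  rw [CharP.cast_eq_zero_iff R p, Nat.dvd_iff_mod_eq_zero, Nat.add_mod, Nat.one_mod_eq_one.2 hp.out.ne_one]
  rcases Nat.lt_or_ge (n % p + 1) p with h | h
  · rw [Nat.mod_eq_of_lt h]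
    omega
  · have : n % p + 1 = p := by omega
    rw [this, Nat.mod_self]
    omega

theorem isUnit_succ (n : ℕ) (h : n + 1 < p) : IsUnit ((n + 1 : ℕ) : R) := by
  rw [← map_natCast (ZMod.castHom (dvd_refl p) R)]
  refine (IsUnit.mk0 _ ?_).map _
  rw [Ne, ZMod.natCast_eq_zero_iff]
  exact Nat.not_dvd_of_pos_of_lt (by omega) h

theorem T_reduce (n : ℕ) : T ((AdjoinRoot.root (X ^ p - C b : R[X])) ^ n • (KaehlerDifferential.D R (AdjoinRoot (X ^ p - C b : R[X]))) (AdjoinRoot.root (X ^ p - C b : R[X]))) = b ^ (n / p) • T ((AdjoinRoot.root (X ^ p - C b : R[X])) ^ (n % p) • (KaehlerDifferential.D R (AdjoinRoot (X ^ p - C b : R[X]))) (AdjoinRoot.root (X ^ p - C b : R[X]))) := by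
  conv_lhs => rw [← Nat.div_add_mod n p, pow_add, pow_mul, root_pow p b, ← map_pow, mul_smul, algebraMap_smul,
    LinearMap.map_smul]

include h1 in
theorem T_pow_top (n : ℕ) (h : ((n + 1 : ℕ) : R) = 0) :
    T ((AdjoinRoot.root (X ^ p - C b : R[X])) ^ n • (KaehlerDifferential.D R (AdjoinRoot (X ^ p - C b : R[X]))) (AdjoinRoot.root (X ^ p - C b : R[X]))) = b ^ (n / p) • KaehlerDifferential.D ℤ R b := by
  rw [T_reduce, (succ_eq_zero p n).1 h, h1]

include h0 in
theorem T_pow_low (n : ℕ) (h : ((n + 1 : ℕ) : R) ≠ 0) : T ((AdjoinRoot.root (X ^ p - C b : R[X])) ^ n • (KaehlerDifferential.D R (AdjoinRoot (X ^ p - C b : R[X]))) (AdjoinRoot.root (X ^ p - C b : R[X]))) = 0 := by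
  rw [T_reduce, h0 _ (by
    have := fun e => h ((succ_eq_zero p n).2 e)
    have h' : ¬ n % p = p - 1 := fun e => h ((succ_eq_zero p n).2 e)
    have := Nat.mod_lt n hp.out.pos
    omega), smul_zero]

include h0 h1 in
theorem T_D (z : (AdjoinRoot (X ^ p - C b : R[X]))) : T ((KaehlerDifferential.D R (AdjoinRoot (X ^ p - C b : R[X]))) z) = 0 := by
  obtain ⟨Q, rfl⟩ := AdjoinRoot.mk_surjective z
  induction Q using Polynomial.induction_on' with
  | add P Q hP hQ => rw [map_add, map_add, map_add, hP, hQ, add_zero]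
  | monomial n c =>
    rw [← C_mul_X_pow_eq_monomial, map_mul, map_pow, AdjoinRoot.mk_C, AdjoinRoot.mk_X, ← AdjoinRoot.algebraMap_eq,
      ← Algebra.smul_def, Derivation.map_smul, Derivation.leibniz_pow, map_smul, ← Nat.cast_smul_eq_nsmul R n,
      LinearMap.map_smul]
    rcases n with - | n
    · simp
    · by_cases h : ((n + 1 : ℕ) : R) = 0
      · rw [h, zero_smul, smul_zero]
      · rw [Nat.add_sub_cancel, T_pow_low p b T h0 n h, smul_zero, smul_zero]

include h0 h1 in
theorem T_exact {u v : (AdjoinRoot (X ^ p - C b : R[X]))} {i j : ℕ} (hij : i + j + 2 = p) :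
    T ((u ^ i * v ^ (j + 1)) • (KaehlerDifferential.D R (AdjoinRoot (X ^ p - C b : R[X]))) u) = T ((u ^ (i + 1) * v ^ j) • (KaehlerDifferential.D R (AdjoinRoot (X ^ p - C b : R[X]))) v) := by
  have h := T_D p b T h0 h1 (u ^ (i + 1) * v ^ (j + 1))
  rw [Derivation.leibniz, Derivation.leibniz_pow, Derivation.leibniz_pow, Nat.add_sub_cancel, Nat.add_sub_cancel,
    smul_comm (u ^ (i + 1)), smul_comm (v ^ (j + 1)), ← mul_smul, ← mul_smul, map_add, ← Nat.cast_smul_eq_nsmul R,
    ← Nat.cast_smul_eq_nsmul R, LinearMap.map_smul, LinearMap.map_smul] at h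
  have hj : ((j + 1 : ℕ) : R) = -((i + 1 : ℕ) : R) := by
    rw [eq_neg_iff_add_eq_zero, ← Nat.cast_add, show j + 1 + (i + 1) = p by omega, CharP.cast_eq_zero]
  rw [hj, neg_smul, neg_add_eq_zero] at h
  have hu : IsUnit ((i + 1 : ℕ) : R) := isUnit_succ p i (by omega)
  rw [mul_comm (u ^ i)]
  exact (hu.smul_left_cancel).1 h.symm

/-- The candidate for the trace. -/
noncomputable def Phi (z : (AdjoinRoot (X ^ p - C b : R[X]))) : Ω[R⁄ℤ] := T (z ^ (p - 1) • (KaehlerDifferential.D R (AdjoinRoot (X ^ p - C b : R[X]))) z)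

include h0 h1 in
theorem Phi_add (u v : (AdjoinRoot (X ^ p - C b : R[X]))) : Phi p b T (u + v) = Phi p b T u + Phi p b T v := by
  obtain ⟨q, hq⟩ : ∃ q, p = q + 2 := ⟨p - 2, by have := hp.out.two_le; omega⟩
  have hneg : ((-1) ^ (p - 1) : R) = 1 := by
    rw [← cast_choose_pred p (R := R) (A := R) (p - 1) (by omega), Nat.choose_self, Nat.cast_one]
  let A : ℕ → Ω[R⁄ℤ] := fun i => (-1 : R) ^ i • T ((u ^ i * v ^ (p - 1 - i)) • (KaehlerDifferential.D R (AdjoinRoot (X ^ p - C b : R[X]))) u)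
  let B : ℕ → Ω[R⁄ℤ] := fun i => (-1 : R) ^ i • T ((u ^ i * v ^ (p - 1 - i)) • (KaehlerDifferential.D R (AdjoinRoot (X ^ p - C b : R[X]))) v)
  have e : ∀ w : (AdjoinRoot (X ^ p - C b : R[X])), T ((u + v) ^ (p - 1) • (KaehlerDifferential.D R (AdjoinRoot (X ^ p - C b : R[X]))) w) =
      ∑ i ∈ Finset.range (p - 1 + 1), (-1 : R) ^ i • T ((u ^ i * v ^ (p - 1 - i)) • (KaehlerDifferential.D R (AdjoinRoot (X ^ p - C b : R[X]))) w) := fun w => by
    rw [add_pow, Finset.sum_smul, map_sum]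
    refine Finset.sum_congr rfl fun i hi => ?_
    rw [cast_choose_pred p (R := R) i (by simp at hi; omega), ← LinearMap.map_smul, ← algebraMap_smul (AdjoinRoot (X ^ p - C b : R[X])) ((-1 : R) ^ i),
      ← mul_smul, map_pow, map_neg, map_one, mul_comm ((-1 : (AdjoinRoot (X ^ p - C b : R[X]))) ^ i)]
  have hAB : ∀ i ∈ Finset.range (p - 1), A i + B (i + 1) = 0 := fun i hi => by
    simp only [Finset.mem_range] at hi
    simp only [A, B]
    rw [show p - 1 - i = p - 2 - i + 1 by omega, T_exact p b T h0 h1 (by omega : i + (p - 2 - i) + 2 = p),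
      show p - 1 - (i + 1) = p - 2 - i by omega, ← add_smul, pow_succ, mul_neg, mul_one, add_neg_cancel, zero_smul]
  show T ((u + v) ^ (p - 1) • (KaehlerDifferential.D R (AdjoinRoot (X ^ p - C b : R[X]))) (u + v)) = _
  rw [map_add, smul_add, map_add, e u, e v]
  show (∑ i ∈ Finset.range (p - 1 + 1), A i) + (∑ i ∈ Finset.range (p - 1 + 1), B i) = _
  rw [Finset.sum_range_succ, Finset.sum_range_succ', add_add_add_comm, ← Finset.sum_add_distrib,
    Finset.sum_eq_zero hAB, zero_add]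
  simp [A, B, Phi, hneg]

include h0 h1 in
theorem Phi_aeval (Q : R[X]) :
    Phi p b T (aeval (AdjoinRoot.root (X ^ p - C b : R[X])) Q) = KaehlerDifferential.D ℤ R ((Q.map (frobenius R p)).eval b) := by
  have hD : ∀ c : R, KaehlerDifferential.D ℤ R (c ^ p) = 0 := fun c => by
    rw [Derivation.leibniz_pow, ← Nat.cast_smul_eq_nsmul R, CharP.cast_eq_zero, zero_smul]
  induction Q using Polynomial.induction_on' with
  | add P Q hP hQ => rw [map_add, Phi_add p b T h0 h1, hP, hQ, Polynomial.map_add, eval_add, map_add]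
  | monomial n c =>
    rw [map_monomial, eval_monomial, aeval_monomial, frobenius_def]
    rcases n with - | n
    · simp [Phi, hD, ← AdjoinRoot.algebraMap_eq]
    rw [Derivation.leibniz, hD, smul_zero, add_zero, Derivation.leibniz_pow, Phi, ← Algebra.smul_def,
      Derivation.map_smul, Derivation.leibniz_pow, Nat.add_sub_cancel, _root_.smul_pow, smul_assoc,
      smul_comm ((((AdjoinRoot.root (X ^ p - C b : R[X])) : (AdjoinRoot (X ^ p - C b : R[X]))) ^ (n + 1)) ^ (p - 1)) c, smul_comm ((((AdjoinRoot.root (X ^ p - C b : R[X])) : (AdjoinRoot (X ^ p - C b : R[X]))) ^ (n + 1)) ^ (p - 1)) (n + 1), ← mul_smul _ ((AdjoinRoot.root (X ^ p - C b : R[X])) ^ n),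
      ← mul_smul (c ^ (p - 1)), ← pow_succ, Nat.sub_add_cancel hp.out.one_le, ← pow_mul, ← pow_add, map_smul,
      map_nsmul]
    have e : (n + 1) * (p - 1) + n = n * p + (p - 1) := by
      obtain ⟨q, hq⟩ : ∃ q, p = q + 1 := ⟨p - 1, by have := hp.out.pos; omega⟩
      rw [hq, Nat.add_sub_cancel]; ring
    rw [e, T_pow_top p b T h1, show (n * p + (p - 1)) / p = n by
      rw [add_comm, Nat.add_mul_div_right _ _ hp.out.pos, Nat.div_eq_of_lt (by have := hp.out.pos; omega), zero_add]]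
    rw [CharP.cast_eq_zero_iff R p]
    exact ⟨n + 1, by have := hp.out.pos; rw [Nat.mul_add, mul_comm p n]; omega⟩

include h0 h1 in
theorem Phi_eq (z : (AdjoinRoot (X ^ p - C b : R[X]))) (c : R) (hz : z ^ p = algebraMap R (AdjoinRoot (X ^ p - C b : R[X])) c) : Phi p b T z = KaehlerDifferential.D ℤ R c := by
  obtain ⟨Q, rfl⟩ := AdjoinRoot.mk_surjective z
  rw [← AdjoinRoot.aeval_eq] at hz ⊢
  rw [Phi_aeval p b T h0 h1]
  refine congrArg _ (algebraMap_inj p b ?_)
  rw [← hz]
  clear hz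
  induction Q using Polynomial.induction_on' with
  | add P Q hP hQ =>
    haveI : CharP (AdjoinRoot (X ^ p - C b : R[X])) p := charP_of_injective_algebraMap (algebraMap_inj p b) p
    rw [Polynomial.map_add, eval_add, map_add, hP, hQ, map_add, add_pow_char]
  | monomial n c =>
    rw [map_monomial, eval_monomial, aeval_monomial, frobenius_def, map_mul, mul_pow, map_pow, map_pow,
      ← root_pow p b, ← pow_mul, ← pow_mul, mul_comm n p]

theorem main (a b : R) (φ : AdjoinRoot (X ^ p - C a : R[X]) →ₐ[R] AdjoinRoot (X ^ p - C b : R[X]))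
    (Tx : Ω[AdjoinRoot (X ^ p - C a : R[X])⁄R] →ₗ[R] Ω[R⁄ℤ])
    (Ty : Ω[AdjoinRoot (X ^ p - C b : R[X])⁄R] →ₗ[R] Ω[R⁄ℤ])
    (hTx : ∀ i : ℕ, i + 2 ≤ p →
      Tx (AdjoinRoot.root (X ^ p - C a) ^ i • KaehlerDifferential.D R _ (AdjoinRoot.root (X ^ p - C a))) = 0)
    (hTx' : Tx (AdjoinRoot.root (X ^ p - C a) ^ (p - 1) • KaehlerDifferential.D R _ (AdjoinRoot.root (X ^ p - C a))) =
      KaehlerDifferential.D ℤ R a)
    (hTy : ∀ i : ℕ, i + 2 ≤ p →
      Ty (AdjoinRoot.root (X ^ p - C b) ^ i • KaehlerDifferential.D R _ (AdjoinRoot.root (X ^ p - C b))) = 0)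
    (hTy' : Ty (AdjoinRoot.root (X ^ p - C b) ^ (p - 1) • KaehlerDifferential.D R _ (AdjoinRoot.root (X ^ p - C b))) =
      KaehlerDifferential.D ℤ R b)
    (s t : AdjoinRoot (X ^ p - C a : R[X])) :
    Tx (s • KaehlerDifferential.D R _ t) = Ty (φ s • KaehlerDifferential.D R _ (φ t)) := by
  set x := AdjoinRoot.root (X ^ p - C a : R[X]) with hx
  set P := φ x with hP
  have hPp : P ^ p = algebraMap R _ a := by rw [hP, ← map_pow, hx, root_pow p a, AlgHom.commutes]
  have hlow : ∀ n : ℕ, n < p →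
      Tx (x ^ n • KaehlerDifferential.D R _ x) = Ty (P ^ n • KaehlerDifferential.D R _ P) := fun n hn => by
    rcases Nat.lt_or_ge (n + 1) p with h | h
    · rw [hTx n (by omega)]
      have h0 := T_D p b Ty hTy hTy' (P ^ (n + 1))
      rw [Derivation.leibniz_pow, Nat.add_sub_cancel, ← Nat.cast_smul_eq_nsmul R, map_smul] at h0
      have hu : IsUnit ((n + 1 : ℕ) : R) := isUnit_succ p n h
      exact (hu.smul_eq_zero.1 h0).symm
    · rw [show n = p - 1 by omega, hTx']
      exact (Phi_eq p b Ty hTy hTy' P a hPp).symm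
  have hgen : ∀ n : ℕ, Tx (x ^ n • KaehlerDifferential.D R _ x) = Ty (P ^ n • KaehlerDifferential.D R _ P) := fun n => by
    rw [← Nat.div_add_mod n p, pow_add, pow_add, pow_mul, pow_mul, hPp, hx, root_pow p a, ← map_pow, ← map_pow,
      mul_smul, mul_smul, algebraMap_smul, algebraMap_smul, LinearMap.map_smul, LinearMap.map_smul, ← hx,
      hlow _ (Nat.mod_lt _ hp.out.pos)]
  have key : ∀ Q : R[X], Tx (aeval x Q • KaehlerDifferential.D R _ x) =
      Ty (aeval P Q • KaehlerDifferential.D R _ P) := fun Q => by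
    induction Q using Polynomial.induction_on' with
    | add A B hA hB => rw [map_add, map_add, add_smul, add_smul, map_add, map_add, hA, hB]
    | monomial n c =>
      rw [aeval_monomial, aeval_monomial, ← Algebra.smul_def, ← Algebra.smul_def, smul_assoc, smul_assoc,
        LinearMap.map_smul, LinearMap.map_smul, hgen]
  obtain ⟨A, rfl⟩ := AdjoinRoot.mk_surjective s
  obtain ⟨B, rfl⟩ := AdjoinRoot.mk_surjective t
  rw [← AdjoinRoot.aeval_eq, ← AdjoinRoot.aeval_eq, ← hx, Derivation.map_aeval, ← mul_smul, ← map_mul, key,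
    map_mul, mul_smul, ← aeval_algHom_apply, ← aeval_algHom_apply, ← hP, Derivation.map_aeval]

end Groth.Agent.Gems6.Trace
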