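import Mathlib
import Groth.Prelude.Def_W4c5m1nsnscurvesU

/-!
The coordinate ring of the space of pointed curves of genus one: five points and the origin.
-/

set_option autoImplicit false
universe u

open MvPolynomial W4c5m1nsnscurves

namespace Groth.Agent.Gems6.URing

variable {R : Type u} [CommRing R] {m : ℕ}

/-- The class map. -/
noncomputable abbrev cls : MvPolynomial (UGen m) R →ₐ[R] URing R m := Ideal.Quotient.mkₐ R _

theorem rel_eq_zero {p : MvPolynomial (UGen m) R} (hp : p ∈ URel R m) : cls p = 0 :=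
  Ideal.Quotient.eq_zero_iff_mem.2 (Ideal.subset_span hp)

theorem rel_lin (i j : Fin m) (h : i ≠ j) : ugen R m (.cij j i h.symm) =
    ugen R m .a + ugen R m (.ci i) + ugen R m (.cbi i) + ugen R m (.ci j) + ugen R m (.cbi j) - ugen R m (.cij i j h) := by
  have hh := rel_eq_zero (R := R) (m := m) (Set.mem_union_left _ (Set.mem_union_left _ (Set.mem_union_left _ ⟨⟨(i, j), h⟩, rfl⟩)))
  simp only [map_sub, map_add, Ideal.Quotient.mkₐ_eq_mk] at hh
  simp only [ugen]
  linear_combination hh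

theorem rel_c (i j : Fin m) (h : i ≠ j) : ugen R m .c =
    ugen R m (.cij j i h.symm) * ugen R m (.ci j) + ugen R m (.cij i j h) * ugen R m (.ci i) -
      ugen R m (.ci i) * ugen R m (.ci j) := by
  have hh := rel_eq_zero (R := R) (m := m) (Set.mem_union_left _ (Set.mem_union_left _ (Set.mem_union_right _ ⟨⟨(i, j), h⟩, rfl⟩)))
  simp only [map_sub, map_add, map_mul, Ideal.Quotient.mkₐ_eq_mk] at hh
  simp only [ugen]
  linear_combination -hh

theorem rel_cb (i j : Fin m) (h : i ≠ j) : ugen R m .cb =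
    ugen R m (.cij j i h.symm) * ugen R m (.cbi i) + ugen R m (.cij i j h) * ugen R m (.cbi j) -
      ugen R m (.cbi i) * ugen R m (.cbi j) := by
  have hh := rel_eq_zero (R := R) (m := m) (Set.mem_union_left _ (Set.mem_union_right _ ⟨⟨(i, j), h⟩, rfl⟩))
  simp only [map_sub, map_add, map_mul, Ideal.Quotient.mkₐ_eq_mk] at hh
  simp only [ugen]
  linear_combination -hh

theorem adjoin_gens : Algebra.adjoin R (Set.range (ugen R m)) = ⊤ := by
  refine eq_top_iff.2 fun x hx => ?_
  clear hx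
  obtain ⟨p, rfl⟩ := Ideal.Quotient.mk_surjective x
  induction p using MvPolynomial.induction_on with
  | C r => exact Subalgebra.algebraMap_mem _ r
  | add p q hp hq => rw [map_add]; exact add_mem hp hq
  | mul_X p g hp => rw [map_mul]; exact mul_mem hp (Algebra.subset_adjoin ⟨g, rfl⟩)

theorem adjoin_eq_top (S : Subalgebra R (URing R m)) (hm : 2 ≤ m) (ha : ugen R m .a ∈ S)
    (hci : ∀ i, ugen R m (.ci i) ∈ S) (hcbi : ∀ i, ugen R m (.cbi i) ∈ S)
    (hij : ∀ i j, ∀ h : i < j, ugen R m (.cij i j (ne_of_lt h)) ∈ S) : S = ⊤ := by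
  have hall : ∀ i j, ∀ h : i ≠ j, ugen R m (.cij i j h) ∈ S := fun i j h => by
    rcases lt_or_gt_of_ne h with h' | h'
    · exact hij i j h'
    · rw [rel_lin j i h.symm]
      exact sub_mem (add_mem (add_mem (add_mem (add_mem ha (hci j)) (hcbi j)) (hci i)) (hcbi i)) (hij j i h')
  have h01 : (⟨0, by omega⟩ : Fin m) ≠ ⟨1, by omega⟩ := by simp
  refine eq_top_iff.2 (adjoin_gens (R := R) (m := m) ▸ Algebra.adjoin_le ?_)
  rintro _ ⟨g, rfl⟩
  cases g with
  | a => exact ha
  | c => rw [SetLike.mem_coe, rel_c _ _ h01]; exact sub_mem (add_mem (mul_mem (hall _ _ _) (hci _)) (mul_mem (hall _ _ _) (hci _))) (mul_mem (hci _) (hci _))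
  | cb => rw [SetLike.mem_coe, rel_cb _ _ h01]; exact sub_mem (add_mem (mul_mem (hall _ _ _) (hcbi _)) (mul_mem (hall _ _ _) (hcbi _))) (mul_mem (hcbi _) (hcbi _))
  | ci i => exact hci i
  | cbi i => exact hcbi i
  | cij i j h => exact hall i j h

/-- The images of the generators in six variables. -/
noncomputable def five : UGen 2 → MvPolynomial (Fin 6) ℤ
  | .a => X 0
  | .ci i => if i = 0 then X 1 else X 3
  | .cbi i => if i = 0 then X 2 else X 4
  | .cij i _ _ => if i = 0 then X 5 else X 0 + X 1 + X 2 + X 3 + X 4 - X 5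
  | .c => (X 0 + X 1 + X 2 + X 3 + X 4 - X 5) * X 3 + X 5 * X 1 - X 1 * X 3
  | .cb => (X 0 + X 1 + X 2 + X 3 + X 4 - X 5) * X 2 + X 5 * X 4 - X 2 * X 4

theorem five_bijective :
    Function.Bijective (MvPolynomial.aeval (R := ℤ) (S₁ := URing ℤ 2)
      ![ugen ℤ 2 .a, ugen ℤ 2 (.ci 0), ugen ℤ 2 (.cbi 0), ugen ℤ 2 (.ci 1), ugen ℤ 2 (.cbi 1),
        ugen ℤ 2 (.cij 0 1 Fin.zero_ne_one)]) := by
  set φ := MvPolynomial.aeval (R := ℤ) (S₁ := URing ℤ 2)
      ![ugen ℤ 2 .a, ugen ℤ 2 (.ci 0), ugen ℤ 2 (.cbi 0), ugen ℤ 2 (.ci 1), ugen ℤ 2 (.cbi 1),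
        ugen ℤ 2 (.cij 0 1 Fin.zero_ne_one)]
  have hker : Ideal.span (URel ℤ 2) ≤ RingHom.ker (MvPolynomial.aeval (R := ℤ) five) := by
    refine Ideal.span_le.2 ?_
    rintro p (((⟨⟨⟨i, j⟩, h⟩, rfl⟩ | ⟨⟨⟨i, j⟩, h⟩, rfl⟩) | ⟨⟨⟨i, j⟩, h⟩, rfl⟩) | ⟨⟨⟨i, j, l⟩, h⟩, rfl⟩)
    all_goals simp only [SetLike.mem_coe, RingHom.mem_ker, map_sub, map_add, map_mul, MvPolynomial.aeval_X]
    · fin_cases i <;> fin_cases j <;> first | exact absurd rfl h | (simp [five]; done) | (simp [five]; ring)
    · fin_cases i <;> fin_cases j <;> first | exact absurd rfl h | (simp [five]; done) | (simp [five]; ring)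
    · fin_cases i <;> fin_cases j <;> first | exact absurd rfl h | (simp [five]; done) | (simp [five]; ring)
    · exfalso
      obtain ⟨h1, h2, h3⟩ := h
      fin_cases i <;> fin_cases j <;> fin_cases l <;>
        first | exact h1 rfl | exact h2 rfl | exact h3 rfl
  let ψ : URing ℤ 2 →+* MvPolynomial (Fin 6) ℤ :=
    Ideal.Quotient.lift _ (MvPolynomial.aeval (R := ℤ) five).toRingHom fun a ha => hker ha
  have h1 : ψ.comp φ.toRingHom = RingHom.id _ := by
    refine MvPolynomial.ringHom_ext (fun r => by simp) (fun j => ?_)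
    fin_cases j <;> simp [φ, ψ, ugen, five]
  refine ⟨Function.LeftInverse.injective (g := ψ) (RingHom.congr_fun h1), ?_⟩
  rw [← AlgHom.range_eq_top]
  have hmem : ∀ i : Fin 6, φ (X i) ∈ φ.range := fun i => ⟨X i, rfl⟩
  refine adjoin_eq_top _ le_rfl ⟨X 0, by simp [φ]⟩ (fun i => ?_) (fun i => ?_) (fun i j h => ?_)
  · fin_cases i
    exacts [⟨X 1, by simp [φ]⟩, ⟨X 3, by simp [φ]⟩]
  · fin_cases i
    exacts [⟨X 2, by simp [φ]⟩, ⟨X 4, by simp [φ]⟩]
  · fin_cases i <;> fin_cases j <;> simp at h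
    exact ⟨X 5, by simp [φ]⟩

variable (m) in
/-- The index of the minimal generators. -/
abbrev MI : Type := Option ((Fin m ⊕ Fin m) ⊕ {q : Fin m × Fin m // q.1 < q.2})

theorem card_MI : Fintype.card (MI m) = (m + 2) * (m + 1) / 2 := by
  have h : Fintype.card {q : Fin m × Fin m // q.1 < q.2} = m.choose 2 := by
    let e : {q : Fin m × Fin m // q.1 < q.2} ≃ Σ j : Fin m, Fin (j : ℕ) :=
      { toFun := fun q => ⟨q.1.2, ⟨q.1.1, q.2⟩⟩
        invFun := fun x => ⟨(⟨x.2, x.2.2.trans x.1.2⟩, x.1), x.2.2⟩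
        left_inv := fun q => rfl
        right_inv := fun x => rfl }
    rw [Fintype.card_congr e, Fintype.card_sigma]
    simp only [Fintype.card_fin]
    rw [Fin.sum_univ_eq_sum_range (fun i => i), Finset.sum_range_id, Nat.choose_two_right]
  simp only [Fintype.card_option, Fintype.card_sum, Fintype.card_fin, h, Nat.choose_two_right]
  have : 2 * (m + m + 1) + m * (m - 1) = (m + 2) * (m + 1) := by
    rcases m with - | j
    · rfl
    · rw [Nat.add_sub_cancel]; ring
  omega

variable {k : Type u} [Field k]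

/-- The linear parts. -/
noncomputable def tang : UGen m → (MI m → k)
  | .a => Pi.single none 1
  | .c => 0
  | .cb => 0
  | .ci i => Pi.single (some (Sum.inl (Sum.inl i))) 1
  | .cbi i => Pi.single (some (Sum.inl (Sum.inr i))) 1
  | .cij i j h => if hlt : i < j then Pi.single (some (Sum.inr ⟨(i, j), hlt⟩)) 1 else
      Pi.single none 1 + Pi.single (some (Sum.inl (Sum.inl j))) 1 + Pi.single (some (Sum.inl (Sum.inr j))) 1 +
        Pi.single (some (Sum.inl (Sum.inl i))) 1 + Pi.single (some (Sum.inl (Sum.inr i))) 1 -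
        Pi.single (some (Sum.inr ⟨(j, i), lt_of_le_of_ne (not_lt.1 hlt) h.symm⟩)) 1

/-- The minimal generators. -/
noncomputable def mgen : MI m → URing k m
  | none => ugen k m .a
  | some (Sum.inl (Sum.inl i)) => ugen k m (.ci i)
  | some (Sum.inl (Sum.inr i)) => ugen k m (.cbi i)
  | some (Sum.inr q) => ugen k m (.cij q.1.1 q.1.2 (ne_of_lt q.2))

theorem finrank_cotangent (hm : 2 ≤ m) :
    Module.finrank k (uorigin k m).Cotangent = (m + 2) * (m + 1) / 2 := by
  classical
  set I := uorigin k m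
  have hgI : ∀ x : MI m, mgen (k := k) x ∈ I := fun x => Ideal.subset_span (by
    rcases x with - | ((i | i) | q) <;> exact ⟨_, rfl⟩)
  let b : MI m → I.Cotangent := fun x => I.toCotangent ⟨mgen x, hgI x⟩
  let F : MvPolynomial (UGen m) k →ₐ[k] TrivSqZeroExt k (MI m → k) :=
    MvPolynomial.aeval fun g => TrivSqZeroExt.inr (tang g)
  have hker : Ideal.span (URel k m) ≤ RingHom.ker F := by
    refine Ideal.span_le.2 ?_
    rintro p (((⟨⟨⟨i, j⟩, h⟩, rfl⟩ | ⟨⟨⟨i, j⟩, h⟩, rfl⟩) | ⟨⟨⟨i, j⟩, h⟩, rfl⟩) | ⟨⟨⟨i, j, l⟩, h⟩, rfl⟩)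
    all_goals simp only [SetLike.mem_coe, RingHom.mem_ker, map_sub, map_add, map_mul, F, MvPolynomial.aeval_X]
    · simp only [← TrivSqZeroExt.inr_add, ← TrivSqZeroExt.inr_sub]
      rw [← TrivSqZeroExt.inr_zero (R := k)]
      congr 1
      rcases lt_or_gt_of_ne h with h' | h'
      · simp only [tang, dif_pos h', dif_neg (lt_asymm h')]; abel
      · simp only [tang, dif_pos h', dif_neg (lt_asymm h')]; abel
    all_goals simp [add_mul, tang]
  let ψ : URing k m →ₐ[k] TrivSqZeroExt k (MI m → k) := Ideal.Quotient.liftₐ _ F fun a ha => hker ha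
  have hψI : ∀ x ∈ I, (ψ x).fst = 0 := by
    intro x hx
    refine Submodule.span_induction (fun y hy => ?_) (by simp) (fun a b _ _ ha hb => by simp [ha, hb])
      (fun r y _ hy => by simp [hy]) hx
    obtain ⟨g, rfl⟩ := hy
    show (F (X g)).fst = 0
    simp [F]
  have hψ2 : ∀ x ∈ I ^ 2, ψ x = 0 := by
    intro x hx
    rw [pow_two] at hx
    refine Submodule.mul_induction_on hx (fun y hy z hz => ?_) (fun y z hy hz => by rw [map_add, hy, hz, add_zero])
    rw [map_mul]
    refine TrivSqZeroExt.ext ?_ ?_ <;> simp [hψI y hy, hψI z hz]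
  have hψb : ∀ x, (ψ (mgen x)).snd = Pi.single x 1 := by
    rintro (- | ((i | i) | ⟨⟨i, j⟩, hq⟩))
    all_goals (show (F (X _)).snd = _; simp [F, tang])
    exact dif_pos hq
  have hli : LinearIndependent k b := by
    refine Fintype.linearIndependent_iff.2 fun c hc x => ?_
    have h0 : I.toCotangent (∑ y, algebraMap k (URing k m) (c y) • (⟨mgen y, hgI y⟩ : I)) = 0 := by
      rw [map_sum, ← hc]
      refine Finset.sum_congr rfl fun y _ => ?_
      rw [map_smul]
      exact algebraMap_smul (URing k m) (c y) (b y)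
    have h1 := hψ2 _ ((Ideal.toCotangent_eq_zero I _).1 h0)
    have h2 := congrArg (fun t => t.snd x) h1
    rw [Submodule.coe_sum, map_sum, TrivSqZeroExt.snd_sum, Finset.sum_apply, Finset.sum_eq_single x] at h2
    · simpa [hψb] using h2
    · intro y _ hy
      simp [hψb, Pi.single_eq_of_ne hy.symm]
    · simp
  have hspan : Submodule.span k (Set.range b) = ⊤ := by
    let T : Subalgebra k (URing k m) := Algebra.adjoin k (Set.range (mgen (k := k) (m := m)))
    have hT : T = ⊤ := adjoin_eq_top T hm (Algebra.subset_adjoin ⟨none, rfl⟩)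
      (fun i => Algebra.subset_adjoin ⟨some (Sum.inl (Sum.inl i)), rfl⟩)
      (fun i => Algebra.subset_adjoin ⟨some (Sum.inl (Sum.inr i)), rfl⟩)
      (fun i j h => Algebra.subset_adjoin ⟨some (Sum.inr ⟨(i, j), h⟩), rfl⟩)
    have hIspan : I = Ideal.span (Set.range (mgen (k := k) (m := m))) := by
      refine le_antisymm (Ideal.span_le.2 ?_) (Ideal.span_le.2 fun _ ⟨x, hx⟩ => hx ▸ hgI x)
      rintro _ ⟨g, rfl⟩
      have hall : ∀ i j, ∀ h : i ≠ j, ugen k m (.cij i j h) ∈ Ideal.span (Set.range (mgen (k := k) (m := m))) := fun i j h => by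
        rcases lt_or_gt_of_ne h with h' | h'
        · exact Ideal.subset_span ⟨some (Sum.inr ⟨(i, j), h'⟩), rfl⟩
        · rw [rel_lin j i h.symm]
          exact sub_mem (add_mem (add_mem (add_mem (add_mem (Ideal.subset_span ⟨none, rfl⟩)
            (Ideal.subset_span ⟨some (Sum.inl (Sum.inl j)), rfl⟩))
            (Ideal.subset_span ⟨some (Sum.inl (Sum.inr j)), rfl⟩))
            (Ideal.subset_span ⟨some (Sum.inl (Sum.inl i)), rfl⟩))
            (Ideal.subset_span ⟨some (Sum.inl (Sum.inr i)), rfl⟩))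
            (Ideal.subset_span ⟨some (Sum.inr ⟨(j, i), h'⟩), rfl⟩)
      have h01 : (⟨0, by omega⟩ : Fin m) ≠ ⟨1, by omega⟩ := by simp
      cases g with
      | a => exact Ideal.subset_span ⟨none, rfl⟩
      | c =>
        rw [SetLike.mem_coe, rel_c _ _ h01]
        exact sub_mem (add_mem (Ideal.mul_mem_right _ _ (hall _ _ _)) (Ideal.mul_mem_right _ _ (hall _ _ _)))
          (Ideal.mul_mem_right _ _ (Ideal.subset_span ⟨some (Sum.inl (Sum.inl _)), rfl⟩))
      | cb =>
        rw [SetLike.mem_coe, rel_cb _ _ h01]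
        exact sub_mem (add_mem (Ideal.mul_mem_right _ _ (hall _ _ _)) (Ideal.mul_mem_right _ _ (hall _ _ _)))
          (Ideal.mul_mem_right _ _ (Ideal.subset_span ⟨some (Sum.inl (Sum.inr _)), rfl⟩))
      | ci i => exact Ideal.subset_span ⟨some (Sum.inl (Sum.inl i)), rfl⟩
      | cbi i => exact Ideal.subset_span ⟨some (Sum.inl (Sum.inr i)), rfl⟩
      | cij i j h => exact hall i j h
    refine eq_top_iff.2 fun z _ => ?_
    obtain ⟨⟨y, hy⟩, rfl⟩ := I.toCotangent_surjective z
    have hy' : y ∈ Ideal.span (Set.range (mgen (k := k) (m := m))) := by rwa [← hIspan]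
    obtain ⟨c, hc⟩ := (Submodule.mem_span_range_iff_exists_fun _).1 hy'
    have e : (⟨y, hy⟩ : I) = ∑ x, c x • (⟨mgen x, hgI x⟩ : I) := Subtype.ext (by simp [← hc])
    rw [e, map_sum]
    refine Submodule.sum_mem _ fun x _ => ?_
    rw [map_smul]
    show c x • b x ∈ _
    have hcx : c x ∈ T := hT ▸ Algebra.mem_top
    have hkill : ∀ r ∈ I, ∀ t : I.Cotangent, r • t = 0 := fun r hr t => by
      obtain ⟨t, rfl⟩ := I.toCotangent_surjective t
      rw [← map_smul, Ideal.toCotangent_eq_zero, pow_two]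
      exact Ideal.mul_mem_mul hr t.2
    have hconst : ∀ r ∈ T, ∃ s : k, r - algebraMap k _ s ∈ I := fun r hr => by
      induction hr using Algebra.adjoin_induction with
      | mem r hr => obtain ⟨x, rfl⟩ := hr; exact ⟨0, by simpa using hgI x⟩
      | algebraMap s => exact ⟨s, by simp⟩
      | add r r' _ _ h h' =>
        obtain ⟨s, hs⟩ := h
        obtain ⟨s', hs'⟩ := h'
        exact ⟨s + s', by rw [map_add, add_sub_add_comm]; exact add_mem hs hs'⟩
      | mul r r' _ _ h h' =>
        obtain ⟨s, hs⟩ := h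
        obtain ⟨s', hs'⟩ := h'
        refine ⟨s * s', ?_⟩
        rw [map_mul, show r * r' - algebraMap k _ s * algebraMap k _ s' =
          (r - algebraMap k _ s) * r' + algebraMap k _ s * (r' - algebraMap k _ s') by ring]
        exact add_mem (Ideal.mul_mem_right _ _ hs) (Ideal.mul_mem_left _ _ hs')
    obtain ⟨s, hs⟩ := hconst _ hcx
    have h0 := hkill _ hs (b x)
    have h1 : c x • b x = s • b x := by
      have e1 := (sub_smul (c x) (algebraMap k (URing k m) s) (b x)).symm.trans h0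
      exact (sub_eq_zero.1 e1).trans (algebraMap_smul (URing k m) s (b x))
    rw [h1]
    exact Submodule.smul_mem _ _ (Submodule.subset_span ⟨x, rfl⟩)
  rw [Module.finrank_eq_card_basis (Module.Basis.mk hli hspan.ge), card_MI]

end Groth.Agent.Gems6.URing
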